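import Mathlib
import Cfsg.Agent.TcChain36.Out.Fi22.Wa

set_option autoImplicit false
set_option maxRecDepth 1000000
set_option linter.all false

namespace Cfsg.Agent.TcChain36.Out.Fi22

open Cfsg.Agent.Lib.OutTree36

set_option Elab.async false

open Cfsg.Agent.Lib.TcBits Cfsg.Agent.Lib.TcPres

theorem e0 : allR (fun p => !(Nat.blt p 3510) || Nat.beq (tget 12 (tab 0) p) (asm (colsW wa (slice 12) 12 (defsL.getD 0 [])) p)) 12 0 = true := by decide +kernel

theorem e1 : allR (fun p => !(Nat.blt p 3510) || Nat.beq (tget 12 (tab 1) p) (asm (colsW wa (slice 12) 12 (defsL.getD 1 [])) p)) 12 0 = true := by decide +kernel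

theorem e2 : allR (fun p => !(Nat.blt p 3510) || Nat.beq (tget 12 (tab 2) p) (asm (colsW wa (slice 12) 12 (defsL.getD 2 [])) p)) 12 0 = true := by decide +kernel

theorem e3 : allR (fun p => !(Nat.blt p 3510) || Nat.beq (tget 12 (tab 3) p) (asm (colsW wa (slice 12) 12 (defsL.getD 3 [])) p)) 12 0 = true := by decide +kernel

theorem e4 : allR (fun p => !(Nat.blt p 3510) || Nat.beq (tget 12 (tab 4) p) (asm (colsW wa (slice 12) 12 (defsL.getD 4 [])) p)) 12 0 = true := by decide +kernel

theorem e5 : allR (fun p => !(Nat.blt p 3510) || Nat.beq (tget 12 (tab 5) p) (asm (colsW wa (slice 12) 12 (defsL.getD 5 [])) p)) 12 0 = true := by decide +kernel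

theorem e6 : allR (fun p => !(Nat.blt p 3510) || Nat.beq (tget 12 (tab 6) p) (asm (colsW wa (slice 12) 12 (defsL.getD 6 [])) p)) 12 0 = true := by decide +kernel

theorem e7 : allR (fun p => !(Nat.blt p 3510) || Nat.beq (tget 12 (tab 7) p) (asm (colsW wa (slice 12) 12 (defsL.getD 7 [])) p)) 12 0 = true := by decide +kernel

theorem e8 : allR (fun p => !(Nat.blt p 3510) || Nat.beq (tget 12 (tab 8) p) (asm (colsW wa (slice 12) 12 (defsL.getD 8 [])) p)) 12 0 = true := by decide +kernel

theorem e9 : allR (fun p => !(Nat.blt p 3510) || Nat.beq (tget 12 (tab 9) p) (asm (colsW wa (slice 12) 12 (defsL.getD 9 [])) p)) 12 0 = true := by decide +kernel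

theorem e10 : allR (fun p => !(Nat.blt p 3510) || Nat.beq (tget 12 (tab 10) p) (asm (colsW wa (slice 12) 12 (defsL.getD 10 [])) p)) 12 0 = true := by decide +kernel

theorem e11 : allR (fun p => !(Nat.blt p 3510) || Nat.beq (tget 12 (tab 11) p) (asm (colsW wa (slice 12) 12 (defsL.getD 11 [])) p)) 12 0 = true := by decide +kernel

theorem e12 : allR (fun p => !(Nat.blt p 3510) || Nat.beq (tget 12 (tab 12) p) (asm (colsW wa (slice 12) 12 (defsL.getD 12 [])) p)) 12 0 = true := by decide +kernel

theorem e13 : allR (fun p => !(Nat.blt p 3510) || Nat.beq (tget 12 (tab 13) p) (asm (colsW wa (slice 12) 12 (defsL.getD 13 [])) p)) 12 0 = true := by decide +kernel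

theorem e14 : allR (fun p => !(Nat.blt p 3510) || Nat.beq (tget 12 (tab 14) p) (asm (colsW wa (slice 12) 12 (defsL.getD 14 [])) p)) 12 0 = true := by decide +kernel

theorem e15 : allR (fun p => !(Nat.blt p 3510) || Nat.beq (tget 12 (tab 15) p) (asm (colsW wa (slice 12) 12 (defsL.getD 15 [])) p)) 12 0 = true := by decide +kernel

theorem e16 : allR (fun p => !(Nat.blt p 3510) || Nat.beq (tget 12 (tab 16) p) (asm (colsW wa (slice 12) 12 (defsL.getD 16 [])) p)) 12 0 = true := by decide +kernel

theorem e17 : allR (fun p => !(Nat.blt p 3510) || Nat.beq (tget 12 (tab 17) p) (asm (colsW wa (slice 12) 12 (defsL.getD 17 [])) p)) 12 0 = true := by decide +kernel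

theorem e18 : allR (fun p => !(Nat.blt p 3510) || Nat.beq (tget 12 (tab 18) p) (asm (colsW wa (slice 12) 12 (defsL.getD 18 [])) p)) 12 0 = true := by decide +kernel

theorem e19 : allR (fun p => !(Nat.blt p 3510) || Nat.beq (tget 12 (tab 19) p) (asm (colsW wa (slice 12) 12 (defsL.getD 19 [])) p)) 12 0 = true := by decide +kernel

theorem e20 : allR (fun p => !(Nat.blt p 3510) || Nat.beq (tget 12 (tab 20) p) (asm (colsW wa (slice 12) 12 (defsL.getD 20 [])) p)) 12 0 = true := by decide +kernel

theorem e21 : allR (fun p => !(Nat.blt p 3510) || Nat.beq (tget 12 (tab 21) p) (asm (colsW wa (slice 12) 12 (defsL.getD 21 [])) p)) 12 0 = true := by decide +kernel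

theorem e22 : allR (fun p => !(Nat.blt p 3510) || Nat.beq (tget 12 (tab 22) p) (asm (colsW wa (slice 12) 12 (defsL.getD 22 [])) p)) 12 0 = true := by decide +kernel

theorem e23 : allR (fun p => !(Nat.blt p 3510) || Nat.beq (tget 12 (tab 23) p) (asm (colsW wa (slice 12) 12 (defsL.getD 23 [])) p)) 12 0 = true := by decide +kernel

theorem e24 : allR (fun p => !(Nat.blt p 3510) || Nat.beq (tget 12 (tab 24) p) (asm (colsW wa (slice 12) 12 (defsL.getD 24 [])) p)) 12 0 = true := by decide +kernel

theorem e25 : allR (fun p => !(Nat.blt p 3510) || Nat.beq (tget 12 (tab 25) p) (asm (colsW wa (slice 12) 12 (defsL.getD 25 [])) p)) 12 0 = true := by decide +kernel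

theorem e26 : allR (fun p => !(Nat.blt p 3510) || Nat.beq (tget 12 (tab 26) p) (asm (colsW wa (slice 12) 12 (defsL.getD 26 [])) p)) 12 0 = true := by decide +kernel

theorem e27 : allR (fun p => !(Nat.blt p 3510) || Nat.beq (tget 12 (tab 27) p) (asm (colsW wa (slice 12) 12 (defsL.getD 27 [])) p)) 12 0 = true := by decide +kernel

theorem e28 : allR (fun p => !(Nat.blt p 3510) || Nat.beq (tget 12 (tab 28) p) (asm (colsW wa (slice 12) 12 (defsL.getD 28 [])) p)) 12 0 = true := by decide +kernel

theorem e29 : allR (fun p => !(Nat.blt p 3510) || Nat.beq (tget 12 (tab 29) p) (asm (colsW wa (slice 12) 12 (defsL.getD 29 [])) p)) 12 0 = true := by decide +kernel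

theorem e30 : allR (fun p => !(Nat.blt p 3510) || Nat.beq (tget 12 (tab 30) p) (asm (colsW wa (slice 12) 12 (defsL.getD 30 [])) p)) 12 0 = true := by decide +kernel

theorem e31 : allR (fun p => !(Nat.blt p 3510) || Nat.beq (tget 12 (tab 31) p) (asm (colsW wa (slice 12) 12 (defsL.getD 31 [])) p)) 12 0 = true := by decide +kernel

theorem e32 : allR (fun p => !(Nat.blt p 3510) || Nat.beq (tget 12 (tab 32) p) (asm (colsW wa (slice 12) 12 (defsL.getD 32 [])) p)) 12 0 = true := by decide +kernel

theorem e33 : allR (fun p => !(Nat.blt p 3510) || Nat.beq (tget 12 (tab 33) p) (asm (colsW wa (slice 12) 12 (defsL.getD 33 [])) p)) 12 0 = true := by decide +kernel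

end Cfsg.Agent.TcChain36.Out.Fi22
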