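import Mathlib
import Cfsg.Agent.TcChain36.Out.Fi22.Syl

set_option autoImplicit false
set_option maxRecDepth 1000000
set_option linter.all false

namespace Cfsg.Agent.TcChain36.Out.Fi22

open Cfsg.Agent.Lib.OutTree36

set_option Elab.async false

open Cfsg.Agent.TcData.Fi22.I3510 Cfsg.Agent.TcData.Fi22 Cfsg.Agent.TcChain36.Fi22

/-- The candidates of a coset. -/
def cd0 : CT :=
  (.nd (.nd (.nd (.nd (.nd (.nd (.nd (.nd (.nd (.lf (.inD [1, 2, 3, 4, 5, 6, 7, 3, 2, 1, 4, 3, 2, 5, 4, 7, 8, 7, 3])) (.nd (.lf (.inD [1, 2, 3, 4, 5, 6, 7, 3, 2, 1, 4, 3, 2, 5, 4, 3, 8, 7, 3, 4])) (.lf (.wit [4, 3] [2, 2])))) (.nd (.nd (.lf (.inD [1, 2, 3, 4, 5, 6, 7, 3, 2, 1, 4, 3, 5, 4, 7, 3, 8, 7, 3, 2, 4, 3, 7])) (.lf (.wit [2, 1] [0, 0]))) (.nd (.lf (.wit [2, 1] [0, 0])) (.lf (.wit [2, 1] [0, 3])))))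 (.nd (.nd (.nd (.lf (.inD [1, 0, 2, 1, 3, 4, 5, 6, 7, 3, 4, 8, 7, 3])) (.lf (.wit [2, 1] [0, 0]))) (.nd (.lf (.wit [2, 1] [0, 0])) (.lf (.wit [2, 1] [0, 0])))) (.nd (.nd (.lf (.wit [2, 1] [0, 0])) (.lf (.wit [2, 1] [0, 0]))) (.nd (.lf (.wit [2, 1] [0, 0])) (.lf (.wit [2, 1] [0, 0])))))) (.nd (.nd (.nd (.nd (.lf (.inD [1, 2, 3, 4, 5, 6, 7, 3, 2, 1, 4, 3, 5, 7, 8, 7, 3, 2, 4, 3, 5, 4, 6, 7])) (.lf (.wit [2, 1] [0, 0]))) (.nd (.lf (.wit [2, 1] [0, 0])) (.lf (.wit [2, 1] [0, 0])))) (.nd (.nd (.lf (.wit [2, 1] [1, 0])) (.lf (.wit [2, 1] [2, 0]))) (.nd (.lf (.wit [2, 1] [2, 0])) (.lf (.wit [2, 1] [1, 0]))))) (.nd (.nd (.nd (.lf (.wit [2, 1] [0, 0])) (.lf (.wit [2, 1] [0, 0]))) (.nd (.lf (.wit [2, 1] [0, 0])) (.lf (.wit [2, 1] [0, 1])))) (.nd (.nd (.lf (.wit [2, 1] [0, 0])) (.lf (.wit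 [2, 1] [0, 0]))) (.nd (.lf (.wit [2, 1] [0, 0])) (.lf (.wit [2, 1] [0, 0]))))))) (.nd (.nd (.nd (.nd (.nd (.lf (.inD [1, 2, 3, 4, 5, 6, 7, 3, 2, 1, 4, 3, 5, 4, 7, 3, 8, 7, 3, 2, 4, 3, 5, 4, 6, 7, 8])) (.lf (.wit [2, 1] [0, 0]))) (.nd (.lf (.wit [2, 1] [0, 0])) (.lf (.wit [2, 1] [0, 0])))) (.nd (.nd (.lf (.wit [4, 1] [0, 0])) (.lf (.wit [2, 1] [0, 0]))) (.nd (.lf (.wit [2, 1] [0, 0])) (.lf (.wit [2, 1] [0, 0]))))) (.nd (.nd (.nd (.lf (.wit [2, 1] [0, 0])) (.lf (.wit [2, 1] [0, 1]))) (.nd (.lf (.wit [2, 1] [0, 0])) (.lf (.wit [2, 1] [0, 0])))) (.nd (.nd (.lf (.wit [2, 1] [0, 0])) (.lf (.wit [2, 1] [0, 0]))) (.nd (.lf (.wit [2, 1] [0, 3])) (.lf (.wit [2, 1] [0, 0])))))) (.nd (.nd (.nd (.nd (.lf (.wit [2, 1] [0, 0])) (.lf (.wit [2, 1] [0, 0]))) (.nd (.lf (.wit [2, 1] [0, 1])) (.lf (.wit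 [2, 1] [0, 0])))) (.nd (.nd (.lf (.wit [2, 1] [0, 0])) (.lf (.wit [2, 1] [0, 0]))) (.nd (.lf (.wit [2, 1] [0, 0])) (.lf (.wit [2, 1] [0, 0]))))) (.nd (.nd (.nd (.lf (.wit [2, 1] [0, 0])) (.lf (.wit [2, 1] [0, 0]))) (.nd (.lf (.wit [2, 1] [0, 0])) (.lf (.wit [2, 1] [0, 0])))) (.nd (.nd (.lf (.wit [2, 1] [0, 1])) (.lf (.wit [2, 1] [0, 0]))) (.nd (.lf (.wit [2, 1] [0, 0])) (.lf (.wit [2, 1] [0, 0])))))))) (.nd (.nd (.nd (.nd (.nd (.nd (.lf (.inD [1, 2, 3, 4, 5, 6, 7, 3, 2, 1, 4, 3, 5, 4, 7, 3, 8, 7, 3, 2, 4, 3, 5, 6])) (.lf (.wit [2, 1] [0, 0]))) (.nd (.lf (.wit [2, 1] [0, 0])) (.lf (.wit [2, 1] [0, 0])))) (.nd (.nd (.lf (.wit [4, 1] [0, 0])) (.lf (.wit [2, 1] [0, 0]))) (.nd (.lf (.wit [2, 1] [0, 0])) (.lf (.wit [2, 1] [0, 0]))))) (.nd (.nd (.nd (.lf (.wit [2, 1] [0, 0])) (.lf (.wit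 [2, 1] [0, 0]))) (.nd (.lf (.wit [2, 1] [0, 1])) (.lf (.wit [2, 1] [0, 0])))) (.nd (.nd (.lf (.wit [2, 1] [0, 0])) (.lf (.wit [2, 1] [0, 3]))) (.nd (.lf (.wit [2, 1] [0, 0])) (.lf (.wit [2, 1] [0, 0])))))) (.nd (.nd (.nd (.nd (.lf (.wit [2, 1] [0, 0])) (.lf (.wit [2, 1] [0, 0]))) (.nd (.lf (.wit [2, 1] [0, 0])) (.lf (.wit [2, 1] [0, 0])))) (.nd (.nd (.lf (.wit [2, 1] [0, 0])) (.lf (.wit [2, 1] [0, 0]))) (.nd (.lf (.wit [2, 1] [0, 0])) (.lf (.wit [2, 1] [0, 0]))))) (.nd (.nd (.nd (.lf (.wit [2, 1] [0, 0])) (.lf (.wit [2, 1] [0, 0]))) (.nd (.lf (.wit [2, 1] [0, 0])) (.lf (.wit [2, 1] [0, 0])))) (.nd (.nd (.lf (.wit [2, 1] [0, 1])) (.lf (.wit [2, 1] [0, 0]))) (.nd (.lf (.wit [2, 1] [0, 0])) (.lf (.wit [2, 1] [0, 1]))))))) (.nd (.nd (.nd (.nd (.nd (.lf (.wit [7, 6] [1, 1])) (.lf (.wit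 [2, 1] [0, 0]))) (.nd (.lf (.wit [2, 1] [0, 0])) (.lf (.wit [2, 1] [0, 1])))) (.nd (.nd (.lf (.wit [4, 1] [0, 3])) (.lf (.wit [2, 1] [0, 0]))) (.nd (.lf (.wit [2, 1] [0, 0])) (.lf (.wit [2, 1] [0, 0]))))) (.nd (.nd (.nd (.lf (.wit [2, 1] [0, 0])) (.lf (.wit [2, 1] [0, 0]))) (.nd (.lf (.wit [2, 1] [0, 0])) (.lf (.wit [2, 1] [0, 0])))) (.nd (.nd (.lf (.wit [7, 6] [2, 2])) (.lf (.wit [7, 6] [2, 2]))) (.nd (.lf (.wit [4, 3] [2, 2])) (.lf (.inD [1, 2, 3, 4, 5, 6, 7, 3, 2, 1, 4, 3, 2, 5, 4, 8, 7, 3, 4, 5, 6])))))) (.nd (.nd (.nd (.nd (.lf (.wit [2, 1] [0, 0])) (.lf (.wit [2, 1] [0, 3]))) (.nd (.lf (.wit [2, 1] [0, 0])) (.lf (.wit [2, 1] [0, 0])))) (.nd (.nd (.lf (.wit [2, 1] [0, 0])) (.lf (.wit [2, 1] [0, 0]))) (.nd (.lf (.wit [2, 1] [0, 0])) (.lf (.wit [2, 1] [0, 0]))))) (.nd (.nd (.nd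 (.lf (.wit [2, 1] [3, 0])) (.lf (.wit [2, 1] [1, 0]))) (.nd (.lf (.wit [2, 1] [1, 0])) (.lf (.wit [2, 1] [2, 0])))) (.nd (.nd (.lf (.wit [2, 1] [0, 0])) (.lf (.wit [2, 1] [0, 0]))) (.nd (.lf (.wit [2, 1] [0, 0])) (.lf (.wit [2, 1] [0, 0]))))))))) (.nd (.nd (.nd (.nd (.nd (.nd (.nd (.lf (.inD [1, 2, 3, 4, 5, 7, 3, 2, 1, 8, 7, 3, 2, 4, 3, 5, 6])) (.lf (.wit [3, 6] [2, 2]))) (.nd (.lf (.wit [7, 6] [2, 2])) (.lf (.wit [7, 6] [2, 2])))) (.nd (.nd (.lf (.wit [2, 1] [0, 0])) (.lf (.wit [2, 1] [0, 0]))) (.nd (.lf (.wit [2, 1] [0, 0])) (.lf (.wit [2, 1] [0, 0]))))) (.nd (.nd (.nd (.lf (.wit [2, 1] [0, 0])) (.lf (.wit [2, 1] [0, 0]))) (.nd (.lf (.wit [2, 1] [0, 0])) (.lf (.wit [2, 1] [0, 0])))) (.nd (.nd (.lf (.wit [2, 1] [0, 0])) (.lf (.wit [2, 1] [0, 0]))) (.nd (.lf (.wit [2, 1] [0, 0]))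 (.lf (.wit [2, 1] [0, 1])))))) (.nd (.nd (.nd (.nd (.lf (.wit [2, 1] [0, 0])) (.lf (.wit [2, 1] [0, 0]))) (.nd (.lf (.wit [2, 1] [0, 0])) (.lf (.wit [2, 1] [0, 0])))) (.nd (.nd (.lf (.wit [2, 1] [2, 0])) (.lf (.wit [2, 1] [1, 0]))) (.nd (.lf (.wit [2, 1] [1, 0])) (.lf (.wit [2, 1] [3, 0]))))) (.nd (.nd (.nd (.lf (.wit [2, 1] [0, 0])) (.lf (.wit [2, 1] [0, 0]))) (.nd (.lf (.wit [2, 1] [0, 0])) (.lf (.wit [2, 1] [0, 0])))) (.nd (.nd (.lf (.wit [2, 1] [0, 0])) (.lf (.wit [2, 1] [0, 0]))) (.nd (.lf (.wit [2, 1] [0, 0])) (.lf (.wit [2, 1] [0, 0]))))))) (.nd (.nd (.nd (.nd (.nd (.lf (.wit [2, 1] [0, 0])) (.lf (.wit [2, 1] [0, 0]))) (.nd (.lf (.wit [2, 1] [0, 0])) (.lf (.wit [2, 1] [0, 0])))) (.nd (.nd (.lf (.wit [2, 1] [0, 0])) (.lf (.wit [2, 1] [0, 1]))) (.nd (.lf (.wit [2, 1] [0, 0]))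 (.lf (.wit [2, 1] [0, 0]))))) (.nd (.nd (.nd (.lf (.wit [2, 1] [0, 0])) (.lf (.wit [2, 1] [0, 0]))) (.nd (.lf (.wit [2, 1] [0, 0])) (.lf (.wit [2, 1] [0, 0])))) (.nd (.nd (.lf (.wit [2, 1] [0, 3])) (.lf (.wit [2, 1] [0, 0]))) (.nd (.lf (.wit [2, 1] [0, 0])) (.lf (.wit [2, 1] [0, 0])))))) (.nd (.nd (.nd (.nd (.lf (.wit [2, 1] [0, 0])) (.lf (.wit [2, 1] [0, 0]))) (.nd (.lf (.wit [2, 1] [0, 0])) (.lf (.wit [2, 1] [0, 0])))) (.nd (.nd (.lf (.wit [2, 1] [0, 0])) (.lf (.wit [2, 1] [0, 0]))) (.nd (.lf (.wit [2, 1] [0, 0])) (.lf (.wit [2, 1] [0, 0]))))) (.nd (.nd (.nd (.lf (.wit [2, 1] [0, 0])) (.lf (.wit [2, 1] [0, 0]))) (.nd (.lf (.wit [2, 1] [0, 0])) (.lf (.inD [1, 2, 3, 4, 5, 6, 7, 3, 2, 1, 4, 3, 5, 8, 7, 3, 2, 4, 3])))) (.nd (.nd (.lf (.wit [2, 1] [0, 0])) (.lf (.wit [2, 1] [0, 1])))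 (.nd (.lf (.wit [2, 1] [0, 1])) (.lf (.wit [2, 1] [0, 0])))))))) (.nd (.nd (.nd (.nd (.nd (.nd (.lf (.wit [2, 1] [0, 0])) (.lf (.wit [2, 1] [0, 0]))) (.nd (.lf (.wit [2, 1] [0, 3])) (.lf (.wit [2, 1] [0, 0])))) (.nd (.nd (.lf (.wit [2, 1] [0, 0])) (.lf (.wit [2, 1] [0, 1]))) (.nd (.lf (.wit [2, 1] [0, 0])) (.lf (.wit [2, 1] [0, 0]))))) (.nd (.nd (.nd (.lf (.wit [2, 1] [0, 1])) (.lf (.wit [2, 1] [0, 0]))) (.nd (.lf (.wit [2, 1] [0, 0])) (.lf (.wit [2, 1] [0, 1])))) (.nd (.nd (.lf (.wit [2, 1] [0, 0])) (.lf (.wit [2, 1] [0, 0]))) (.nd (.lf (.wit [2, 1] [0, 0])) (.lf (.wit [2, 1] [0, 0])))))) (.nd (.nd (.nd (.nd (.lf (.wit [2, 1] [0, 0])) (.lf (.wit [2, 1] [0, 0]))) (.nd (.lf (.wit [2, 1] [0, 0])) (.lf (.wit [2, 1] [0, 1])))) (.nd (.nd (.lf (.wit [2, 1] [0, 0])) (.lf (.wit [2, 1] [0,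 0]))) (.nd (.lf (.wit [2, 1] [0, 0])) (.lf (.wit [2, 1] [0, 0]))))) (.nd (.nd (.nd (.lf (.wit [2, 1] [0, 0])) (.lf (.wit [2, 1] [0, 0]))) (.nd (.lf (.wit [2, 1] [0, 0])) (.lf (.wit [2, 1] [0, 0])))) (.nd (.nd (.lf (.wit [2, 1] [0, 0])) (.lf (.wit [2, 1] [0, 1]))) (.nd (.lf (.wit [2, 1] [0, 0])) (.lf (.wit [2, 1] [0, 0]))))))) (.nd (.nd (.nd (.nd (.nd (.lf (.wit [2, 1] [0, 0])) (.lf (.wit [2, 1] [0, 0]))) (.nd (.lf (.wit [2, 1] [0, 0])) (.lf (.wit [2, 1] [0, 0])))) (.nd (.nd (.lf (.wit [2, 1] [0, 0])) (.lf (.wit [2, 1] [0, 0]))) (.nd (.lf (.wit [2, 1] [0, 0])) (.lf (.wit [2, 1] [0, 0]))))) (.nd (.nd (.nd (.lf (.wit [2, 1] [0, 0])) (.lf (.wit [2, 1] [0, 0]))) (.nd (.lf (.wit [2, 1] [0, 0])) (.lf (.wit [2, 1] [0, 0])))) (.nd (.nd (.lf (.wit [7, 6] [2, 2])) (.lf (.wit [7, 6] [2, 2])))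 (.nd (.lf (.wit [4, 3] [2, 2])) (.lf (.wit [4, 3] [2, 2])))))) (.nd (.nd (.nd (.nd (.lf (.wit [2, 1] [0, 3])) (.lf (.wit [2, 1] [0, 0]))) (.nd (.lf (.wit [2, 1] [0, 0])) (.lf (.wit [2, 1] [0, 0])))) (.nd (.nd (.lf (.wit [2, 1] [0, 0])) (.lf (.wit [2, 1] [0, 0]))) (.nd (.lf (.wit [2, 1] [0, 0])) (.lf (.wit [2, 1] [0, 1]))))) (.nd (.nd (.nd (.lf (.wit [2, 1] [1, 0])) (.lf (.wit [2, 1] [2, 0]))) (.nd (.lf (.wit [2, 1] [2, 0])) (.lf (.wit [2, 1] [1, 0])))) (.nd (.nd (.lf (.wit [2, 1] [0, 0])) (.lf (.wit [2, 1] [0, 0]))) (.nd (.lf (.wit [2, 1] [0, 0])) (.lf (.wit [2, 1] [0, 0])))))))))) (.nd (.nd (.nd (.nd (.nd (.nd (.nd (.nd (.lf (.inD [1, 2, 3, 4, 5, 6, 7, 3, 2, 1, 4, 3, 2, 5, 8, 7, 3, 2, 4, 3, 5, 6, 7, 8])) (.lf (.wit [2, 1] [0, 0]))) (.nd (.lf (.wit [2, 1] [0, 0])) (.lf (.wit [2,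 1] [0, 0])))) (.nd (.nd (.lf (.wit [2, 1] [0, 0])) (.lf (.wit [2, 1] [0, 0]))) (.nd (.lf (.wit [2, 1] [0, 0])) (.lf (.wit [2, 1] [0, 0]))))) (.nd (.nd (.nd (.lf (.wit [2, 1] [0, 0])) (.lf (.wit [2, 1] [0, 0]))) (.nd (.lf (.wit [2, 1] [0, 0])) (.lf (.wit [2, 1] [0, 0])))) (.nd (.nd (.lf (.wit [2, 1] [0, 0])) (.lf (.wit [2, 1] [0, 0]))) (.nd (.lf (.wit [2, 1] [0, 0])) (.lf (.wit [2, 1] [0, 0])))))) (.nd (.nd (.nd (.nd (.lf (.wit [2, 1] [0, 0])) (.lf (.wit [2, 1] [0, 0]))) (.nd (.lf (.wit [2, 1] [0, 0])) (.lf (.wit [2, 1] [0, 1])))) (.nd (.nd (.lf (.wit [2, 1] [0, 0])) (.lf (.wit [2, 1] [0, 0]))) (.nd (.lf (.wit [2, 1] [0, 0])) (.lf (.wit [2, 1] [0, 0]))))) (.nd (.nd (.nd (.lf (.wit [2, 1] [0, 0])) (.lf (.wit [2, 1] [0, 0]))) (.nd (.lf (.wit [2, 1] [0, 0])) (.lf (.wit [2, 1] [0, 0]))))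 (.nd (.nd (.lf (.wit [2, 1] [0, 0])) (.lf (.wit [2, 1] [0, 0]))) (.nd (.lf (.wit [2, 1] [0, 0])) (.lf (.wit [2, 1] [0, 0]))))))) (.nd (.nd (.nd (.nd (.nd (.lf (.wit [2, 1] [1, 0])) (.lf (.wit [2, 1] [2, 0]))) (.nd (.lf (.wit [2, 1] [2, 0])) (.lf (.wit [2, 1] [1, 0])))) (.nd (.nd (.lf (.wit [2, 1] [0, 0])) (.lf (.wit [2, 1] [0, 0]))) (.nd (.lf (.wit [2, 1] [0, 0])) (.lf (.wit [2, 1] [0, 0]))))) (.nd (.nd (.nd (.lf (.wit [2, 1] [0, 0])) (.lf (.wit [2, 1] [0, 0]))) (.nd (.lf (.wit [2, 1] [0, 0])) (.lf (.wit [2, 1] [0, 0])))) (.nd (.nd (.lf (.wit [2, 1] [0, 1])) (.lf (.wit [2, 1] [0, 0]))) (.nd (.lf (.wit [2, 1] [0, 0])) (.lf (.wit [2, 1] [0, 1])))))) (.nd (.nd (.nd (.nd (.lf (.wit [2, 1] [0, 0])) (.lf (.wit [2, 1] [0, 0]))) (.nd (.lf (.wit [2, 1] [0, 0])) (.lf (.wit [2, 1] [0, 0]))))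 (.nd (.nd (.lf (.wit [3, 7] [2, 2])) (.lf (.inD [1, 2, 3, 4, 5, 6, 7, 3, 2, 1, 8, 7, 3, 2, 4, 3, 7]))) (.nd (.lf (.wit [7, 6] [2, 2])) (.lf (.wit [7, 6] [2, 2]))))) (.nd (.nd (.nd (.lf (.wit [2, 1] [0, 0])) (.lf (.wit [2, 1] [0, 1]))) (.nd (.lf (.wit [2, 1] [0, 0])) (.lf (.wit [2, 1] [0, 0])))) (.nd (.nd (.lf (.wit [2, 1] [0, 0])) (.lf (.wit [2, 1] [0, 0]))) (.nd (.lf (.wit [2, 1] [0, 0])) (.lf (.wit [2, 1] [0, 0])))))))) (.nd (.nd (.nd (.nd (.nd (.nd (.lf (.wit [2, 1] [0, 0])) (.lf (.wit [2, 1] [0, 1]))) (.nd (.lf (.wit [2, 1] [0, 0])) (.lf (.wit [2, 1] [0, 0])))) (.nd (.nd (.lf (.wit [2, 1] [0, 0])) (.lf (.wit [2, 1] [0, 0]))) (.nd (.lf (.wit [2, 1] [0, 3])) (.lf (.wit [2, 1] [0, 0]))))) (.nd (.nd (.nd (.lf (.wit [2, 1] [0, 0])) (.lf (.wit [2, 1] [0, 0]))) (.nd (.lf (.wit [2,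 1] [0, 0])) (.lf (.wit [2, 1] [0, 0])))) (.nd (.nd (.lf (.wit [2, 1] [3, 0])) (.lf (.wit [2, 1] [1, 0]))) (.nd (.lf (.wit [2, 1] [1, 0])) (.lf (.wit [2, 1] [2, 0])))))) (.nd (.nd (.nd (.nd (.lf (.wit [2, 1] [0, 0])) (.lf (.wit [2, 1] [0, 0]))) (.nd (.lf (.wit [2, 1] [0, 0])) (.lf (.wit [2, 1] [0, 0])))) (.nd (.nd (.lf (.wit [2, 1] [0, 1])) (.lf (.wit [2, 1] [0, 0]))) (.nd (.lf (.wit [2, 1] [0, 0])) (.lf (.wit [2, 1] [0, 1]))))) (.nd (.nd (.nd (.lf (.wit [7, 6] [2, 2])) (.lf (.wit [7, 6] [2, 2]))) (.nd (.lf (.wit [3, 6] [2, 2])) (.lf (.wit [4, 3] [2, 2])))) (.nd (.nd (.lf (.wit [2, 1] [0, 0])) (.lf (.wit [2, 1] [0, 3]))) (.nd (.lf (.wit [2, 1] [0, 3])) (.lf (.wit [2, 1] [0, 0]))))))) (.nd (.nd (.nd (.nd (.nd (.lf (.wit [2, 1] [0, 0])) (.lf (.wit [2, 1] [0, 0]))) (.nd (.lf (.wit [2,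 1] [0, 0])) (.lf (.wit [2, 1] [0, 0])))) (.nd (.nd (.lf (.wit [2, 1] [0, 0])) (.lf (.wit [2, 1] [0, 1]))) (.nd (.lf (.wit [2, 1] [0, 0])) (.lf (.wit [2, 1] [0, 0]))))) (.nd (.nd (.nd (.lf (.wit [2, 1] [0, 1])) (.lf (.wit [2, 1] [0, 0]))) (.nd (.lf (.wit [2, 1] [0, 0])) (.lf (.wit [2, 1] [0, 0])))) (.nd (.nd (.lf (.wit [2, 1] [0, 0])) (.lf (.wit [2, 1] [0, 0]))) (.nd (.lf (.wit [2, 1] [0, 0])) (.lf (.wit [2, 1] [0, 0])))))) (.nd (.nd (.nd (.nd (.lf (.wit [2, 1] [0, 1])) (.lf (.wit [2, 1] [0, 0]))) (.nd (.lf (.wit [2, 1] [0, 0])) (.lf (.wit [2, 1] [0, 0])))) (.nd (.nd (.lf (.wit [2, 1] [0, 0])) (.lf (.wit [2, 1] [0, 0]))) (.nd (.lf (.wit [2, 1] [0, 0])) (.lf (.wit [2, 1] [0, 0]))))) (.nd (.nd (.nd (.lf (.wit [2, 1] [0, 0])) (.lf (.wit [2, 1] [0, 0]))) (.nd (.lf (.wit [2, 1] [0, 0]))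 (.lf (.wit [2, 1] [0, 0])))) (.nd (.nd (.lf (.wit [2, 1] [0, 0])) (.lf (.wit [2, 1] [0, 0]))) (.nd (.lf (.wit [2, 1] [0, 0])) (.lf (.wit [2, 1] [0, 0]))))))))) (.nd (.nd (.nd (.nd (.nd (.nd (.nd (.lf (.wit [2, 1] [0, 0])) (.lf (.wit [2, 1] [0, 0]))) (.nd (.lf (.wit [2, 1] [0, 0])) (.lf (.wit [4, 1] [0, 0])))) (.nd (.nd (.lf (.wit [2, 1] [0, 1])) (.lf (.wit [2, 1] [0, 0]))) (.nd (.lf (.wit [2, 1] [0, 0])) (.lf (.wit [3, 1] [0, 0]))))) (.nd (.nd (.nd (.lf (.wit [2, 1] [0, 0])) (.lf (.wit [2, 1] [0, 1]))) (.nd (.lf (.wit [2, 1] [0, 0])) (.lf (.wit [2, 1] [0, 0])))) (.nd (.nd (.lf (.wit [2, 1] [0, 0])) (.lf (.wit [2, 1] [0, 0]))) (.nd (.lf (.wit [2, 1] [0, 0])) (.lf (.wit [2, 1] [0, 0])))))) (.nd (.nd (.nd (.nd (.lf (.wit [2, 1] [0, 0])) (.lf (.wit [2, 1] [0, 0]))) (.nd (.lf (.wit [2,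 1] [0, 0])) (.lf (.wit [2, 1] [0, 0])))) (.nd (.nd (.lf (.wit [2, 1] [0, 0])) (.lf (.wit [2, 1] [0, 3]))) (.nd (.lf (.wit [2, 1] [0, 0])) (.lf (.wit [2, 1] [0, 0]))))) (.nd (.nd (.nd (.lf (.wit [2, 1] [0, 0])) (.lf (.wit [2, 1] [0, 0]))) (.nd (.lf (.wit [2, 1] [0, 0])) (.lf (.wit [2, 1] [0, 0])))) (.nd (.nd (.lf (.wit [2, 1] [0, 0])) (.lf (.wit [2, 1] [0, 0]))) (.nd (.lf (.wit [2, 1] [0, 0])) (.lf (.wit [2, 1] [0, 1]))))))) (.nd (.nd (.nd (.nd (.nd (.lf (.wit [2, 1] [2, 0])) (.lf (.wit [2, 1] [1, 0]))) (.nd (.lf (.wit [2, 1] [1, 0])) (.lf (.wit [4, 1] [0, 0])))) (.nd (.nd (.lf (.wit [2, 1] [0, 0])) (.lf (.wit [2, 1] [0, 0]))) (.nd (.lf (.wit [2, 1] [0, 0])) (.lf (.wit [4, 1] [0, 0]))))) (.nd (.nd (.nd (.lf (.wit [2, 1] [0, 0])) (.lf (.wit [2, 1] [0, 0]))) (.nd (.lf (.wit [2, 1]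 [0, 0])) (.lf (.wit [2, 1] [0, 0])))) (.nd (.nd (.lf (.wit [2, 1] [0, 0])) (.lf (.wit [2, 1] [0, 0]))) (.nd (.lf (.wit [2, 1] [0, 1])) (.lf (.wit [2, 1] [0, 0])))))) (.nd (.nd (.nd (.nd (.lf (.wit [2, 1] [0, 0])) (.lf (.wit [2, 1] [0, 0]))) (.nd (.lf (.wit [2, 1] [0, 0])) (.lf (.wit [2, 1] [0, 0])))) (.nd (.nd (.lf (.wit [2, 4] [1, 1])) (.lf (.wit [3, 6] [2, 2]))) (.nd (.lf (.wit [7, 6] [2, 2])) (.lf (.wit [7, 6] [2, 2]))))) (.nd (.nd (.nd (.lf (.wit [2, 1] [0, 0])) (.lf (.wit [2, 1] [0, 0]))) (.nd (.lf (.wit [2, 1] [0, 0])) (.lf (.wit [2, 1] [0, 0])))) (.nd (.nd (.lf (.wit [2, 1] [0, 0])) (.lf (.wit [2, 1] [0, 0]))) (.nd (.lf (.wit [2, 1] [0, 0])) (.lf (.wit [2, 1] [0, 0])))))))) (.nd (.nd (.nd (.nd (.nd (.nd (.lf (.wit [2, 1] [0, 0])) (.lf (.wit [2, 1] [0, 0]))) (.nd (.lf (.wit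 [2, 1] [0, 0])) (.lf (.wit [4, 1] [0, 0])))) (.nd (.nd (.lf (.wit [2, 1] [0, 0])) (.lf (.wit [2, 1] [0, 0]))) (.nd (.lf (.wit [2, 1] [0, 0])) (.lf (.inD [1, 2, 3, 4, 5, 6, 7, 3, 2, 1, 4, 3, 2, 8, 7, 3, 2, 4, 3, 7, 8]))))) (.nd (.nd (.nd (.lf (.wit [2, 1] [0, 0])) (.lf (.wit [2, 1] [0, 0]))) (.nd (.lf (.wit [2, 1] [0, 0])) (.lf (.wit [2, 1] [0, 0])))) (.nd (.nd (.lf (.wit [2, 1] [1, 0])) (.lf (.wit [2, 1] [2, 0]))) (.nd (.lf (.wit [2, 1] [2, 0])) (.lf (.wit [2, 1] [1, 0])))))) (.nd (.nd (.nd (.nd (.lf (.wit [2, 1] [0, 0])) (.lf (.wit [2, 1] [0, 0]))) (.nd (.lf (.wit [2, 1] [0, 0])) (.lf (.wit [2, 1] [0, 0])))) (.nd (.nd (.lf (.wit [2, 1] [0, 0])) (.lf (.wit [2, 1] [0, 0]))) (.nd (.lf (.wit [2, 1] [0, 1])) (.lf (.wit [2, 1] [0, 0]))))) (.nd (.nd (.nd (.lf (.wit [4, 3] [2, 2])) (.lf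 (.inD [1, 2, 3, 4, 5, 6, 7, 3, 2, 1, 4, 3, 2, 8, 7, 3]))) (.nd (.lf (.wit [4, 3] [2, 2])) (.lf (.wit [4, 3] [2, 2])))) (.nd (.nd (.lf (.wit [2, 1] [0, 0])) (.lf (.wit [2, 1] [0, 0]))) (.nd (.lf (.wit [2, 1] [0, 0])) (.lf (.wit [2, 1] [0, 0]))))))) (.nd (.nd (.nd (.nd (.nd (.lf (.wit [2, 1] [0, 0])) (.lf (.wit [2, 1] [0, 0]))) (.nd (.lf (.wit [2, 1] [0, 0])) (.lf (.wit [4, 1] [0, 0])))) (.nd (.nd (.lf (.wit [2, 1] [0, 0])) (.lf (.wit [2, 1] [0, 0]))) (.nd (.lf (.wit [2, 1] [0, 0])) (.lf (.wit [7, 6] [1, 1]))))) (.nd (.nd (.nd (.lf (.wit [2, 1] [0, 0])) (.lf (.wit [2, 1] [0, 0]))) (.nd (.lf (.wit [2, 1] [0, 0])) (.lf (.wit [2, 1] [0, 0])))) (.nd (.nd (.lf (.wit [2, 1] [0, 0])) (.lf (.wit [2, 1] [0, 0]))) (.nd (.lf (.wit [2, 1] [0, 0])) (.lf (.wit [2, 1] [0, 0])))))) (.nd (.nd (.nd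 (.nd (.lf (.wit [2, 1] [0, 0])) (.lf (.wit [2, 1] [0, 1]))) (.nd (.lf (.wit [2, 1] [0, 1])) (.lf (.wit [2, 1] [0, 0])))) (.nd (.nd (.lf (.wit [2, 1] [0, 0])) (.lf (.wit [2, 1] [0, 0]))) (.nd (.lf (.wit [2, 1] [0, 0])) (.lf (.wit [2, 1] [0, 0]))))) (.nd (.nd (.nd (.lf (.wit [2, 1] [0, 3])) (.lf (.wit [2, 1] [0, 0]))) (.nd (.lf (.wit [2, 1] [0, 0])) (.lf (.wit [2, 1] [0, 0])))) (.nd (.nd (.lf (.wit [2, 1] [0, 0])) (.lf (.wit [2, 1] [0, 0]))) (.nd (.lf (.wit [2, 1] [0, 0])) (.lf (.wit [2, 1] [0, 1]))))))))))) (.nd (.nd (.nd (.nd (.nd (.nd (.nd (.nd (.nd (.lf (.inD [])) (.lf (.wit [2, 1] [0, 0]))) (.nd (.lf (.wit [2, 1] [0, 0])) (.lf (.wit [2, 1] [0, 3])))) (.nd (.nd (.lf (.wit [3, 1] [0, 0])) (.lf (.wit [2, 1] [1, 0]))) (.nd (.lf (.wit [2, 1] [1, 0])) (.lf (.wit [2, 1] [3, 0])))))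 (.nd (.nd (.nd (.lf (.wit [2, 1] [0, 0])) (.lf (.wit [2, 1] [0, 1]))) (.nd (.lf (.wit [2, 1] [0, 1])) (.lf (.wit [2, 1] [0, 0])))) (.nd (.nd (.lf (.wit [2, 1] [0, 0])) (.lf (.wit [2, 1] [0, 0]))) (.nd (.lf (.wit [2, 1] [0, 0])) (.lf (.wit [2, 1] [0, 0])))))) (.nd (.nd (.nd (.nd (.lf (.wit [2, 1] [0, 0])) (.lf (.wit [2, 1] [0, 1]))) (.nd (.lf (.wit [2, 1] [0, 1])) (.lf (.wit [2, 1] [0, 0])))) (.nd (.nd (.lf (.wit [2, 1] [0, 0])) (.lf (.wit [2, 1] [0, 0]))) (.nd (.lf (.wit [2, 1] [0, 0])) (.lf (.wit [2, 1] [0, 0]))))) (.nd (.nd (.nd (.lf (.wit [2, 1] [0, 0])) (.lf (.wit [2, 1] [0, 0]))) (.nd (.lf (.wit [2, 1] [0, 0])) (.lf (.wit [2, 1] [0, 0])))) (.nd (.nd (.lf (.wit [2, 1] [2, 0])) (.lf (.wit [2, 1] [1, 0]))) (.nd (.lf (.wit [2, 1] [1, 0])) (.lf (.wit [2, 1] [2, 0]))))))) (.nd (.nd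 (.nd (.nd (.nd (.lf (.wit [4, 1] [0, 0])) (.lf (.wit [2, 1] [1, 0]))) (.nd (.lf (.wit [2, 1] [1, 0])) (.lf (.wit [2, 1] [2, 0])))) (.nd (.nd (.lf (.wit [4, 1] [0, 0])) (.lf (.wit [2, 1] [0, 0]))) (.nd (.lf (.wit [2, 1] [0, 0])) (.lf (.wit [2, 1] [0, 0]))))) (.nd (.nd (.nd (.lf (.wit [2, 1] [0, 0])) (.lf (.wit [2, 1] [0, 0]))) (.nd (.lf (.wit [2, 1] [0, 0])) (.lf (.wit [2, 1] [0, 0])))) (.nd (.nd (.lf (.wit [2, 1] [1, 0])) (.lf (.wit [2, 1] [2, 0]))) (.nd (.lf (.wit [2, 1] [3, 0])) (.lf (.wit [2, 1] [1, 0])))))) (.nd (.nd (.nd (.nd (.lf (.wit [2, 1] [0, 0])) (.lf (.wit [2, 1] [0, 0]))) (.nd (.lf (.wit [2, 1] [0, 0])) (.lf (.wit [2, 1] [0, 0])))) (.nd (.nd (.lf (.wit [2, 1] [0, 0])) (.lf (.wit [2, 1] [0, 1]))) (.nd (.lf (.wit [2, 1] [0, 0])) (.lf (.wit [2, 1] [0, 0]))))) (.nd (.nd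 (.nd (.lf (.wit [2, 1] [0, 0])) (.lf (.wit [2, 1] [0, 0]))) (.nd (.lf (.wit [2, 1] [0, 0])) (.lf (.wit [2, 1] [0, 1])))) (.nd (.nd (.lf (.wit [2, 1] [0, 0])) (.lf (.wit [2, 1] [0, 0]))) (.nd (.lf (.wit [2, 1] [0, 0])) (.lf (.wit [2, 1] [0, 0])))))))) (.nd (.nd (.nd (.nd (.nd (.nd (.lf (.wit [4, 1] [0, 0])) (.lf (.wit [2, 1] [1, 0]))) (.nd (.lf (.wit [2, 1] [1, 0])) (.lf (.wit [2, 1] [2, 0])))) (.nd (.nd (.lf (.wit [4, 1] [0, 0])) (.lf (.wit [2, 1] [0, 0]))) (.nd (.lf (.wit [2, 1] [0, 0])) (.lf (.wit [2, 1] [0, 0]))))) (.nd (.nd (.nd (.lf (.wit [2, 1] [0, 0])) (.lf (.wit [2, 1] [0, 0]))) (.nd (.lf (.wit [2, 1] [0, 0])) (.lf (.wit [2, 1] [0, 0])))) (.nd (.nd (.lf (.wit [2, 1] [1, 0])) (.lf (.wit [2, 1] [3, 0]))) (.nd (.lf (.wit [2, 1] [2, 0])) (.lf (.wit [2, 1] [1, 0])))))) (.nd (.nd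 (.nd (.nd (.lf (.wit [2, 1] [0, 0])) (.lf (.wit [2, 1] [0, 0]))) (.nd (.lf (.wit [2, 1] [0, 0])) (.lf (.wit [2, 1] [0, 0])))) (.nd (.nd (.lf (.wit [2, 1] [0, 0])) (.lf (.wit [2, 1] [0, 0]))) (.nd (.lf (.wit [2, 1] [0, 0])) (.lf (.wit [2, 1] [0, 0]))))) (.nd (.nd (.nd (.lf (.wit [2, 1] [0, 0])) (.lf (.wit [2, 1] [0, 0]))) (.nd (.lf (.wit [2, 1] [0, 0])) (.lf (.wit [2, 1] [0, 0])))) (.nd (.nd (.lf (.wit [2, 1] [0, 0])) (.lf (.inD [1, 2, 3, 4, 5, 6, 7, 3, 2, 1, 4, 3, 8, 7, 3, 2, 4, 3, 5, 4, 7, 3]))) (.nd (.lf (.wit [2, 1] [0, 0])) (.lf (.wit [2, 1] [0, 0]))))))) (.nd (.nd (.nd (.nd (.nd (.lf (.wit [4, 1] [0, 3])) (.lf (.wit [2, 1] [0, 0]))) (.nd (.lf (.wit [2, 1] [0, 0])) (.lf (.wit [2, 1] [0, 0])))) (.nd (.nd (.lf (.wit [3, 1] [0, 0])) (.lf (.wit [2, 1] [0, 0]))) (.nd (.lf (.wit [2,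 1] [0, 0])) (.lf (.wit [2, 1] [0, 1]))))) (.nd (.nd (.nd (.lf (.wit [2, 1] [1, 0])) (.lf (.wit [2, 1] [2, 0]))) (.nd (.lf (.wit [2, 1] [2, 0])) (.lf (.wit [2, 1] [1, 0])))) (.nd (.nd (.lf (.wit [2, 1] [0, 1])) (.lf (.wit [2, 1] [0, 3]))) (.nd (.lf (.wit [2, 1] [0, 3])) (.lf (.wit [2, 1] [0, 0])))))) (.nd (.nd (.nd (.nd (.lf (.wit [2, 1] [1, 0])) (.lf (.wit [2, 1] [3, 0]))) (.nd (.lf (.wit [2, 1] [2, 0])) (.lf (.wit [2, 1] [1, 0])))) (.nd (.nd (.lf (.wit [2, 1] [0, 0])) (.lf (.wit [2, 1] [0, 0]))) (.nd (.lf (.wit [2, 1] [0, 0])) (.lf (.wit [2, 1] [0, 0]))))) (.nd (.nd (.nd (.lf (.wit [2, 1] [0, 3])) (.lf (.wit [2, 1] [0, 0]))) (.nd (.lf (.wit [2, 1] [0, 0])) (.lf (.wit [2, 1] [0, 0])))) (.nd (.nd (.lf (.wit [2, 1] [0, 0])) (.lf (.wit [2, 1] [0, 0]))) (.nd (.lf (.wit [2, 1] [0, 0]))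 (.lf (.wit [2, 1] [0, 1]))))))))) (.nd (.nd (.nd (.nd (.nd (.nd (.nd (.lf (.wit [2, 1] [0, 0])) (.lf (.wit [2, 1] [0, 3]))) (.nd (.lf (.wit [2, 1] [0, 3])) (.lf (.wit [2, 1] [0, 1])))) (.nd (.nd (.lf (.wit [2, 1] [1, 0])) (.lf (.wit [2, 1] [2, 0]))) (.nd (.lf (.wit [2, 1] [2, 0])) (.lf (.wit [2, 1] [1, 0]))))) (.nd (.nd (.nd (.lf (.wit [2, 1] [0, 1])) (.lf (.wit [2, 1] [0, 0]))) (.nd (.lf (.wit [2, 1] [0, 0])) (.lf (.wit [2, 1] [0, 0])))) (.nd (.nd (.lf (.wit [2, 1] [0, 0])) (.lf (.wit [2, 1] [0, 0]))) (.nd (.lf (.wit [2, 1] [0, 0])) (.lf (.wit [2, 1] [0, 0])))))) (.nd (.nd (.nd (.nd (.lf (.wit [2, 1] [0, 1])) (.lf (.wit [2, 1] [0, 0]))) (.nd (.lf (.wit [2, 1] [0, 0])) (.lf (.wit [2, 1] [0, 0])))) (.nd (.nd (.lf (.wit [2, 1] [0, 0])) (.lf (.wit [2, 1] [0, 0]))) (.nd (.lf (.wit [2,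 1] [0, 0])) (.lf (.wit [2, 1] [0, 3]))))) (.nd (.nd (.nd (.lf (.wit [2, 1] [0, 0])) (.lf (.wit [2, 1] [0, 0]))) (.nd (.lf (.wit [2, 1] [0, 0])) (.lf (.wit [2, 1] [0, 0])))) (.nd (.nd (.lf (.wit [2, 1] [1, 0])) (.lf (.wit [2, 1] [2, 0]))) (.nd (.lf (.wit [2, 1] [2, 0])) (.lf (.wit [2, 1] [1, 0]))))))) (.nd (.nd (.nd (.nd (.nd (.lf (.wit [2, 1] [1, 0])) (.lf (.wit [2, 1] [2, 0]))) (.nd (.lf (.wit [2, 1] [2, 0])) (.lf (.wit [2, 1] [1, 0])))) (.nd (.nd (.lf (.wit [2, 1] [0, 0])) (.lf (.wit [2, 1] [0, 0]))) (.nd (.lf (.wit [2, 1] [0, 0])) (.lf (.wit [2, 1] [0, 0]))))) (.nd (.nd (.nd (.lf (.wit [2, 1] [0, 0])) (.lf (.wit [2, 1] [0, 0]))) (.nd (.lf (.wit [2, 1] [0, 0])) (.lf (.wit [2, 1] [0, 0])))) (.nd (.nd (.lf (.wit [2, 1] [3, 0])) (.lf (.wit [2, 1] [1, 0]))) (.nd (.lf (.wit [2, 1]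 [1, 0])) (.lf (.wit [2, 1] [2, 0])))))) (.nd (.nd (.nd (.nd (.lf (.wit [2, 1] [0, 0])) (.lf (.wit [2, 1] [0, 0]))) (.nd (.lf (.wit [2, 1] [0, 0])) (.lf (.wit [2, 1] [0, 0])))) (.nd (.nd (.lf (.wit [2, 1] [0, 0])) (.lf (.wit [2, 1] [0, 0]))) (.nd (.lf (.wit [2, 1] [0, 0])) (.lf (.wit [2, 1] [0, 0]))))) (.nd (.nd (.nd (.lf (.wit [2, 1] [0, 0])) (.lf (.wit [2, 1] [0, 1]))) (.nd (.lf (.wit [2, 1] [0, 1])) (.lf (.wit [2, 1] [0, 0])))) (.nd (.nd (.lf (.inD [1, 2, 3, 4, 5, 6, 7, 3, 2, 1, 4, 3, 2, 5, 7, 8, 7, 3, 2, 4, 3, 7, 8])) (.lf (.wit [2, 1] [0, 0]))) (.nd (.lf (.wit [2, 1] [0, 0])) (.lf (.wit [2, 1] [0, 0])))))))) (.nd (.nd (.nd (.nd (.nd (.nd (.lf (.wit [2, 1] [1, 0])) (.lf (.wit [2, 1] [2, 0]))) (.nd (.lf (.wit [2, 1] [3, 0])) (.lf (.wit [2, 1] [1, 0])))) (.nd (.nd (.lf (.wit [2,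 1] [0, 0])) (.lf (.wit [2, 1] [0, 0]))) (.nd (.lf (.wit [2, 1] [0, 0])) (.lf (.wit [2, 1] [0, 0]))))) (.nd (.nd (.nd (.lf (.wit [2, 1] [0, 0])) (.lf (.wit [2, 1] [0, 0]))) (.nd (.lf (.inD [1, 2, 3, 4, 5, 6, 7, 3, 2, 1, 4, 3, 2, 5, 4, 8, 7, 3, 2, 4, 3, 5, 4, 6, 7, 3, 2, 8, 7])) (.lf (.wit [2, 1] [0, 0])))) (.nd (.nd (.lf (.wit [2, 1] [2, 0])) (.lf (.wit [2, 1] [1, 0]))) (.nd (.lf (.wit [2, 1] [1, 0])) (.lf (.wit [2, 1] [2, 0])))))) (.nd (.nd (.nd (.nd (.lf (.wit [2, 1] [0, 0])) (.lf (.wit [2, 1] [0, 0]))) (.nd (.lf (.wit [2, 1] [0, 0])) (.lf (.wit [2, 1] [0, 0])))) (.nd (.nd (.lf (.wit [2, 1] [0, 1])) (.lf (.wit [2, 1] [0, 0]))) (.nd (.lf (.wit [2, 1] [0, 0])) (.lf (.wit [2, 1] [0, 0]))))) (.nd (.nd (.nd (.lf (.wit [2, 1] [0, 0])) (.lf (.wit [2, 1] [0, 1]))) (.nd (.lf (.wit [2, 1]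 [0, 0])) (.lf (.wit [2, 1] [0, 0])))) (.nd (.nd (.lf (.wit [2, 1] [0, 0])) (.lf (.wit [2, 1] [0, 0]))) (.nd (.lf (.wit [2, 1] [0, 0])) (.lf (.wit [2, 1] [0, 0]))))))) (.nd (.nd (.nd (.nd (.nd (.lf (.wit [2, 1] [0, 0])) (.lf (.wit [2, 1] [0, 0]))) (.nd (.lf (.wit [2, 1] [0, 0])) (.lf (.wit [2, 1] [0, 0])))) (.nd (.nd (.lf (.wit [2, 1] [0, 0])) (.lf (.wit [2, 1] [0, 0]))) (.nd (.lf (.wit [2, 1] [0, 0])) (.lf (.wit [2, 1] [0, 0]))))) (.nd (.nd (.nd (.lf (.wit [2, 1] [2, 0])) (.lf (.wit [2, 1] [1, 0]))) (.nd (.lf (.wit [2, 1] [1, 0])) (.lf (.wit [2, 1] [2, 0])))) (.nd (.nd (.lf (.wit [2, 1] [0, 3])) (.lf (.wit [2, 1] [0, 1]))) (.nd (.lf (.wit [2, 1] [0, 1])) (.lf (.wit [2, 1] [0, 3])))))) (.nd (.nd (.nd (.nd (.lf (.wit [2, 1] [4, 0])) (.lf (.wit [2, 1] [1, 0]))) (.nd (.lf (.wit [2,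 1] [1, 0])) (.lf (.wit [2, 1] [2, 0])))) (.nd (.nd (.lf (.wit [2, 1] [0, 0])) (.lf (.wit [2, 1] [0, 0]))) (.nd (.lf (.wit [2, 1] [0, 0])) (.lf (.wit [2, 1] [0, 0]))))) (.nd (.nd (.nd (.lf (.wit [2, 1] [0, 0])) (.lf (.wit [2, 1] [0, 0]))) (.nd (.lf (.wit [2, 1] [0, 0])) (.lf (.wit [2, 1] [0, 0])))) (.nd (.nd (.lf (.wit [2, 1] [0, 0])) (.lf (.wit [2, 1] [0, 0]))) (.nd (.lf (.wit [2, 1] [0, 0])) (.lf (.wit [2, 1] [0, 0])))))))))) (.nd (.nd (.nd (.nd (.nd (.nd (.nd (.nd (.lf (.wit [2, 1] [0, 0])) (.lf (.wit [2, 1] [0, 1]))) (.nd (.lf (.wit [2, 1] [0, 1])) (.lf (.wit [2, 1] [0, 0])))) (.nd (.nd (.lf (.wit [2, 1] [0, 0])) (.lf (.wit [2, 1] [0, 0]))) (.nd (.lf (.wit [2, 1] [0, 0])) (.lf (.wit [2, 1] [0, 0]))))) (.nd (.nd (.nd (.lf (.wit [2, 1] [0, 0])) (.lf (.wit [2, 1] [0, 0]))) (.nd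 (.lf (.wit [2, 1] [0, 0])) (.lf (.wit [2, 1] [0, 0])))) (.nd (.nd (.lf (.wit [2, 1] [0, 0])) (.lf (.wit [2, 1] [0, 0]))) (.nd (.lf (.wit [2, 1] [0, 0])) (.lf (.wit [2, 1] [0, 0])))))) (.nd (.nd (.nd (.nd (.lf (.wit [2, 1] [0, 0])) (.lf (.wit [2, 1] [0, 0]))) (.nd (.lf (.wit [2, 1] [0, 0])) (.lf (.wit [2, 1] [0, 0])))) (.nd (.nd (.lf (.wit [2, 1] [2, 0])) (.lf (.wit [2, 1] [1, 0]))) (.nd (.lf (.wit [2, 1] [1, 0])) (.lf (.wit [2, 1] [2, 0]))))) (.nd (.nd (.nd (.lf (.wit [2, 1] [1, 0])) (.lf (.wit [2, 1] [2, 0]))) (.nd (.lf (.wit [2, 1] [2, 0])) (.lf (.wit [2, 1] [1, 0])))) (.nd (.nd (.lf (.wit [2, 1] [0, 0])) (.lf (.wit [2, 1] [0, 0]))) (.nd (.lf (.wit [2, 1] [0, 0])) (.lf (.wit [2, 1] [0, 0]))))))) (.nd (.nd (.nd (.nd (.nd (.lf (.wit [2, 1] [0, 0])) (.lf (.wit [2, 1] [0, 0]))) (.nd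 (.lf (.wit [2, 1] [0, 0])) (.lf (.wit [2, 1] [0, 0])))) (.nd (.nd (.lf (.wit [2, 1] [0, 0])) (.lf (.wit [2, 1] [0, 1]))) (.nd (.lf (.wit [2, 1] [0, 0])) (.lf (.wit [2, 1] [0, 0]))))) (.nd (.nd (.nd (.lf (.wit [2, 1] [2, 0])) (.lf (.wit [2, 1] [1, 0]))) (.nd (.lf (.wit [2, 1] [1, 0])) (.lf (.wit [2, 1] [2, 0])))) (.nd (.nd (.lf (.wit [2, 1] [0, 0])) (.lf (.wit [2, 1] [0, 0]))) (.nd (.lf (.inD [1, 2, 3, 4, 5, 6, 7, 3, 2, 1, 4, 3, 5, 8, 7, 3, 2, 4, 3, 5, 6, 7])) (.lf (.wit [2, 1] [0, 0])))))) (.nd (.nd (.nd (.nd (.lf (.wit [2, 1] [2, 0])) (.lf (.wit [2, 1] [1, 0]))) (.nd (.lf (.wit [2, 1] [1, 0])) (.lf (.wit [2, 1] [2, 0])))) (.nd (.nd (.lf (.wit [2, 1] [0, 3])) (.lf (.wit [2, 1] [0, 0]))) (.nd (.lf (.wit [2, 1] [0, 1])) (.lf (.wit [2, 1] [0, 3]))))) (.nd (.nd (.nd (.lf (.wit [2, 1]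 [0, 0])) (.lf (.wit [2, 1] [0, 0]))) (.nd (.lf (.wit [2, 1] [0, 0])) (.lf (.wit [2, 1] [0, 0])))) (.nd (.nd (.lf (.wit [2, 1] [0, 0])) (.lf (.wit [2, 1] [0, 1]))) (.nd (.lf (.wit [2, 1] [0, 0])) (.lf (.wit [2, 1] [0, 0])))))))) (.nd (.nd (.nd (.nd (.nd (.nd (.lf (.wit [2, 1] [0, 0])) (.lf (.wit [2, 1] [0, 0]))) (.nd (.lf (.wit [2, 1] [0, 0])) (.lf (.wit [2, 1] [0, 0])))) (.nd (.nd (.lf (.wit [2, 1] [1, 0])) (.lf (.wit [2, 1] [2, 0]))) (.nd (.lf (.wit [2, 1] [3, 0])) (.lf (.wit [2, 1] [1, 0]))))) (.nd (.nd (.nd (.lf (.wit [2, 1] [0, 0])) (.lf (.wit [2, 1] [0, 0]))) (.nd (.lf (.wit [2, 1] [0, 0])) (.lf (.wit [2, 1] [0, 0])))) (.nd (.nd (.lf (.wit [2, 1] [0, 3])) (.lf (.wit [2, 1] [0, 0]))) (.nd (.lf (.wit [2, 1] [0, 0])) (.lf (.wit [2, 1] [0, 0])))))) (.nd (.nd (.nd (.nd (.lf (.wit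 [2, 1] [0, 0])) (.lf (.wit [2, 1] [0, 0]))) (.nd (.lf (.wit [2, 1] [0, 0])) (.lf (.wit [2, 1] [0, 0])))) (.nd (.nd (.lf (.wit [2, 1] [0, 0])) (.lf (.wit [2, 1] [0, 0]))) (.nd (.lf (.inD [1, 2, 3, 4, 5, 6, 7, 3, 2, 1, 4, 3, 2, 5, 4, 7, 8, 7, 3, 2, 4, 3, 5, 4, 7, 3, 8])) (.lf (.wit [2, 1] [0, 0]))))) (.nd (.nd (.nd (.lf (.wit [2, 1] [0, 1])) (.lf (.wit [2, 1] [0, 3]))) (.nd (.lf (.wit [2, 1] [0, 3])) (.lf (.wit [2, 1] [0, 1])))) (.nd (.nd (.lf (.wit [2, 1] [1, 0])) (.lf (.wit [2, 1] [3, 0]))) (.nd (.lf (.wit [2, 1] [3, 0])) (.lf (.wit [2, 1] [1, 0]))))))) (.nd (.nd (.nd (.nd (.nd (.lf (.wit [2, 1] [0, 0])) (.lf (.wit [2, 1] [0, 0]))) (.nd (.lf (.wit [2, 1] [0, 1])) (.lf (.wit [2, 1] [0, 0])))) (.nd (.nd (.lf (.wit [2, 1] [0, 0])) (.lf (.wit [2, 1] [0, 0]))) (.nd (.lf (.wit [2, 1]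 [0, 0])) (.lf (.wit [2, 1] [0, 0]))))) (.nd (.nd (.nd (.lf (.wit [2, 1] [0, 0])) (.lf (.wit [2, 1] [0, 0]))) (.nd (.lf (.wit [2, 1] [0, 0])) (.lf (.wit [2, 1] [0, 0])))) (.nd (.nd (.lf (.wit [2, 1] [0, 0])) (.lf (.wit [2, 1] [0, 0]))) (.nd (.lf (.wit [2, 1] [0, 0])) (.lf (.wit [2, 1] [0, 1])))))) (.nd (.nd (.nd (.nd (.lf (.wit [2, 1] [0, 0])) (.lf (.wit [2, 1] [0, 0]))) (.nd (.lf (.wit [2, 1] [0, 0])) (.lf (.wit [2, 1] [0, 0])))) (.nd (.nd (.lf (.wit [2, 1] [2, 0])) (.lf (.wit [2, 1] [1, 0]))) (.nd (.lf (.wit [2, 1] [1, 0])) (.lf (.wit [2, 1] [2, 0]))))) (.nd (.nd (.nd (.lf (.wit [2, 1] [1, 0])) (.lf (.wit [2, 1] [2, 0]))) (.nd (.lf (.wit [2, 1] [2, 0])) (.lf (.wit [2, 1] [1, 0])))) (.nd (.nd (.lf (.wit [2, 1] [0, 0])) (.lf (.wit [2, 1] [0, 0]))) (.nd (.lf (.wit [2, 1] [0, 0]))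 (.lf (.wit [2, 1] [0, 0]))))))))) (.nd (.nd (.nd (.nd (.nd (.nd (.nd (.lf (.wit [2, 1] [0, 1])) (.lf (.wit [2, 1] [0, 0]))) (.nd (.lf (.wit [2, 1] [0, 0])) (.lf (.wit [7, 6] [1, 1])))) (.nd (.nd (.lf (.wit [2, 1] [0, 0])) (.lf (.wit [2, 1] [0, 0]))) (.nd (.lf (.wit [2, 1] [0, 0])) (.lf (.wit [4, 1] [0, 0]))))) (.nd (.nd (.nd (.lf (.wit [2, 1] [0, 0])) (.lf (.wit [2, 1] [0, 0]))) (.nd (.lf (.wit [2, 1] [0, 0])) (.lf (.wit [2, 1] [0, 0])))) (.nd (.nd (.lf (.wit [2, 1] [0, 0])) (.lf (.wit [2, 1] [0, 0]))) (.nd (.lf (.wit [2, 1] [0, 1])) (.lf (.wit [2, 1] [0, 0])))))) (.nd (.nd (.nd (.nd (.lf (.wit [2, 1] [0, 0])) (.lf (.wit [2, 1] [0, 0]))) (.nd (.lf (.wit [2, 1] [0, 0])) (.lf (.wit [2, 1] [0, 0])))) (.nd (.nd (.lf (.wit [2, 1] [1, 0])) (.lf (.wit [2, 1] [3, 0]))) (.nd (.lf (.wit [2,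 1] [2, 0])) (.lf (.wit [2, 1] [1, 0]))))) (.nd (.nd (.nd (.lf (.wit [2, 1] [2, 0])) (.lf (.wit [2, 1] [1, 0]))) (.nd (.lf (.wit [2, 1] [1, 0])) (.lf (.wit [2, 1] [2, 0])))) (.nd (.nd (.lf (.wit [2, 1] [0, 0])) (.lf (.wit [2, 1] [0, 0]))) (.nd (.lf (.wit [2, 1] [0, 0])) (.lf (.wit [2, 1] [0, 0]))))))) (.nd (.nd (.nd (.nd (.nd (.lf (.wit [2, 1] [0, 0])) (.lf (.wit [2, 1] [0, 0]))) (.nd (.lf (.wit [2, 1] [0, 0])) (.lf (.inD [1, 2, 3, 4, 5, 6, 7, 3, 2, 1, 4, 3, 7, 8, 7, 3, 2, 4, 3])))) (.nd (.nd (.lf (.wit [2, 1] [0, 0])) (.lf (.wit [2, 1] [0, 0]))) (.nd (.lf (.wit [2, 1] [0, 0])) (.lf (.wit [4, 1] [0, 0]))))) (.nd (.nd (.nd (.lf (.wit [2, 1] [1, 0])) (.lf (.wit [2, 1] [2, 0]))) (.nd (.lf (.wit [2, 1] [2, 0])) (.lf (.wit [2, 1] [1, 0])))) (.nd (.nd (.lf (.wit [2, 1] [0, 0])) (.lf (.wit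 [2, 1] [0, 0]))) (.nd (.lf (.wit [2, 1] [0, 0])) (.lf (.wit [2, 1] [0, 0])))))) (.nd (.nd (.nd (.nd (.lf (.wit [2, 1] [1, 0])) (.lf (.wit [2, 1] [2, 0]))) (.nd (.lf (.wit [2, 1] [2, 0])) (.lf (.wit [2, 1] [1, 0])))) (.nd (.nd (.lf (.wit [2, 1] [0, 1])) (.lf (.wit [2, 1] [0, 3]))) (.nd (.lf (.wit [2, 1] [0, 3])) (.lf (.wit [2, 1] [0, 1]))))) (.nd (.nd (.nd (.lf (.wit [2, 1] [0, 0])) (.lf (.wit [2, 1] [0, 0]))) (.nd (.lf (.wit [2, 1] [0, 0])) (.lf (.wit [2, 1] [0, 0])))) (.nd (.nd (.lf (.wit [2, 1] [0, 0])) (.lf (.wit [2, 1] [0, 0]))) (.nd (.lf (.wit [2, 1] [0, 0])) (.lf (.wit [2, 1] [0, 0])))))))) (.nd (.nd (.nd (.nd (.nd (.nd (.lf (.wit [2, 1] [0, 0])) (.lf (.wit [2, 1] [0, 0]))) (.nd (.lf (.wit [2, 1] [0, 0])) (.lf (.wit [4, 1] [0, 0])))) (.nd (.nd (.lf (.wit [2, 1] [2, 0])) (.lf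 (.wit [2, 1] [1, 0]))) (.nd (.lf (.wit [2, 1] [1, 0])) (.lf (.wit [4, 1] [0, 0]))))) (.nd (.nd (.nd (.lf (.wit [2, 1] [0, 0])) (.lf (.wit [2, 1] [0, 1]))) (.nd (.lf (.wit [2, 1] [0, 0])) (.lf (.wit [2, 1] [0, 0])))) (.nd (.nd (.lf (.wit [2, 1] [0, 0])) (.lf (.wit [2, 1] [0, 0]))) (.nd (.lf (.wit [2, 1] [0, 0])) (.lf (.wit [2, 1] [0, 0])))))) (.nd (.nd (.nd (.nd (.lf (.wit [2, 1] [0, 0])) (.lf (.wit [2, 1] [0, 1]))) (.nd (.lf (.wit [2, 1] [0, 0])) (.lf (.wit [2, 1] [0, 0])))) (.nd (.nd (.lf (.wit [2, 1] [0, 0])) (.lf (.wit [2, 1] [0, 0]))) (.nd (.lf (.wit [2, 1] [0, 0])) (.lf (.wit [2, 1] [0, 0]))))) (.nd (.nd (.nd (.lf (.wit [2, 1] [0, 3])) (.lf (.wit [2, 1] [0, 0]))) (.nd (.lf (.wit [2, 1] [0, 1])) (.lf (.wit [2, 1] [0, 3])))) (.nd (.nd (.lf (.wit [2, 1] [2, 0])) (.lf (.wit [2,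 1] [1, 0]))) (.nd (.lf (.wit [2, 1] [1, 0])) (.lf (.wit [2, 1] [2, 0]))))))) (.nd (.nd (.nd (.nd (.nd (.lf (.wit [2, 1] [0, 0])) (.lf (.wit [2, 1] [0, 0]))) (.nd (.lf (.wit [2, 1] [0, 0])) (.lf (.wit [4, 3] [1, 1])))) (.nd (.nd (.lf (.wit [2, 1] [0, 0])) (.lf (.wit [2, 1] [0, 0]))) (.nd (.lf (.wit [2, 1] [0, 0])) (.lf (.wit [4, 1] [0, 0]))))) (.nd (.nd (.nd (.lf (.wit [2, 1] [0, 0])) (.lf (.wit [2, 1] [0, 0]))) (.nd (.lf (.wit [2, 1] [0, 0])) (.lf (.wit [2, 1] [0, 0])))) (.nd (.nd (.lf (.wit [2, 1] [0, 0])) (.lf (.wit [2, 1] [0, 0]))) (.nd (.lf (.wit [2, 1] [0, 0])) (.lf (.wit [2, 1] [0, 0])))))) (.nd (.nd (.nd (.nd (.lf (.inD [1, 2, 3, 4, 5, 6, 7, 3, 2, 1, 4, 3, 2, 5, 4, 3, 8, 7, 3, 2, 4, 3, 5, 4, 6, 7, 3, 2])) (.lf (.wit [2, 1] [0, 0]))) (.nd (.lf (.wit [2, 1] [0, 0])) (.lf (.wit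 [2, 1] [0, 0])))) (.nd (.nd (.lf (.wit [2, 1] [1, 0])) (.lf (.wit [2, 1] [2, 0]))) (.nd (.lf (.wit [2, 1] [2, 0])) (.lf (.wit [2, 1] [1, 0]))))) (.nd (.nd (.nd (.lf (.wit [2, 1] [3, 0])) (.lf (.wit [2, 1] [1, 0]))) (.nd (.lf (.wit [2, 1] [1, 0])) (.lf (.wit [2, 1] [2, 0])))) (.nd (.nd (.lf (.wit [2, 1] [0, 0])) (.lf (.wit [2, 1] [0, 0]))) (.nd (.lf (.wit [2, 1] [0, 0])) (.lf (.wit [2, 1] [0, 0]))))))))))))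

theorem k0 : chkCand DD ap iv bsL 0 3510 [2, 3] cd0 0 = true := by decide +kernel

/-- The candidates of a coset. -/
def cd1 : CT :=
  (.nd (.nd (.nd (.nd (.nd (.nd (.nd (.nd (.nd (.nd (.lf (.wit [4, 3] [2, 2])) (.lf (.wit [4, 3] [2, 2]))) .nil) .nil) (.nd (.nd (.nd (.lf (.wit [3, 1] [0, 0])) (.lf (.wit [2, 1] [0, 0]))) .nil) .nil)) .nil) (.nd (.nd (.nd (.nd (.nd (.lf (.wit [4, 1] [0, 0])) (.lf (.wit [2, 1] [0, 0]))) .nil) .nil) (.nd (.nd (.nd (.lf (.wit [2, 1] [0, 0])) (.lf (.wit [2, 1] [0, 1]))) .nil) .nil)) .nil)) (.nd (.nd (.nd (.nd .nil (.nd (.nd (.lf (.wit [4, 1] [0, 0])) (.lf (.wit [2, 1] [0, 0]))) .nil)) (.nd .nil (.nd (.nd (.lf (.wit [2, 1] [0, 0])) (.lf (.wit [2, 1] [0, 3]))) .nil))) .nil) (.nd (.nd (.nd .nil (.nd (.nd (.lf (.wit [4, 1] [0, 3])) (.lf (.wit [2, 1] [0,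 0]))) .nil)) (.nd .nil (.nd (.nd (.lf (.wit [7, 6] [2, 2])) (.lf (.wit [7, 6] [2, 2]))) .nil))) .nil))) .nil) (.nd .nil (.nd (.nd (.nd .nil (.nd (.nd .nil (.nd (.nd (.lf (.wit [2, 1] [0, 0])) (.lf (.wit [2, 1] [0, 3]))) .nil)) (.nd .nil (.nd (.nd (.lf (.wit [2, 1] [0, 0])) (.lf (.wit [2, 1] [0, 0]))) .nil)))) (.nd .nil (.nd (.nd .nil (.nd (.nd (.lf (.wit [4, 3] [2, 2])) (.lf (.wit [4, 3] [2, 2]))) .nil)) (.nd .nil (.nd (.nd (.lf (.wit [2, 1] [0, 0])) (.lf (.wit [2, 1] [0, 0]))) .nil))))) (.nd (.nd .nil (.nd (.nd (.nd (.nd (.lf (.wit [2, 1] [0, 0])) (.lf (.wit [2, 1] [0, 0]))) .nil) .nil) (.nd (.nd (.nd (.lf (.wit [3, 6] [2, 2])) (.lf (.wit [2, 4] [1, 1]))) .nil) .nil))) (.nd .nil (.nd (.nd (.nd (.nd (.lf (.wit [2, 1] [0, 0])) (.lf (.wit [2, 1] [0, 1]))) .nil) .nil) (.nd (.nd (.nd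 (.lf (.wit [2, 1] [0, 3])) (.lf (.wit [2, 1] [0, 0]))) .nil) .nil))))))) (.nd (.nd (.nd (.nd (.nd (.nd (.nd (.nd (.nd (.lf (.wit [4, 3] [2, 2])) (.lf (.wit [2, 1] [0, 0]))) .nil) .nil) (.nd (.nd (.nd (.lf (.wit [2, 1] [0, 0])) (.lf (.wit [2, 1] [0, 1]))) .nil) .nil)) .nil) (.nd (.nd (.nd (.nd (.nd (.lf (.wit [4, 3] [1, 1])) (.lf (.wit [2, 1] [1, 0]))) .nil) .nil) (.nd (.nd (.nd (.lf (.wit [2, 1] [0, 0])) (.lf (.wit [2, 1] [0, 0]))) .nil) .nil)) .nil)) (.nd (.nd (.nd (.nd .nil (.nd (.nd (.lf (.wit [4, 1] [0, 0])) (.lf (.wit [2, 1] [0, 0]))) .nil)) (.nd .nil (.nd (.nd (.lf (.wit [2, 1] [1, 0])) (.lf (.wit [2, 1] [3, 0]))) .nil))) .nil) (.nd (.nd (.nd .nil (.nd (.nd (.lf (.wit [3, 1] [0, 0])) (.lf (.wit [2, 1] [0, 0]))) .nil)) (.nd .nil (.nd (.nd (.lf (.wit [2, 1] [0, 1])) (.lf (.wit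 [2, 1] [0, 3]))) .nil))) .nil))) .nil) (.nd .nil (.nd (.nd (.nd .nil (.nd (.nd .nil (.nd (.nd (.lf (.wit [2, 1] [1, 0])) (.lf (.wit [2, 1] [3, 0]))) .nil)) (.nd .nil (.nd (.nd (.lf (.wit [2, 1] [0, 0])) (.lf (.wit [2, 1] [0, 0]))) .nil)))) (.nd .nil (.nd (.nd .nil (.nd (.nd (.lf (.wit [2, 1] [0, 1])) (.lf (.wit [2, 1] [0, 3]))) .nil)) (.nd .nil (.nd (.nd (.lf (.wit [2, 1] [0, 0])) (.lf (.wit [2, 1] [0, 0]))) .nil))))) (.nd (.nd .nil (.nd (.nd (.nd (.nd (.lf (.wit [2, 1] [0, 0])) (.lf (.wit [2, 1] [0, 1]))) .nil) .nil) (.nd (.nd (.nd (.lf (.wit [2, 1] [0, 3])) (.lf (.wit [2, 1] [0, 0]))) .nil) .nil))) (.nd .nil (.nd (.nd (.nd (.nd (.lf (.wit [4, 1] [0, 0])) (.lf (.wit [2, 1] [0, 0]))) .nil) .nil) (.nd (.nd (.nd (.lf (.wit [2, 1] [3, 0])) (.lf (.wit [2, 1] [1, 0]))) .nil) .nil))))))))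

theorem k1 : chkCand DD ap iv bsL 0 3510 [2, 3] cd1 1 = true := by decide +kernel

/-- The candidates of a coset. -/
def cd2 : CT :=
  (.nd (.nd (.nd (.nd (.nd (.nd (.nd (.nd (.nd (.nd (.lf (.wit [4, 3] [1, 1])) (.lf (.wit [2, 1] [0, 0]))) .nil) .nil) (.nd (.nd (.nd (.lf (.wit [2, 1] [0, 1])) (.lf (.wit [2, 1] [0, 0]))) .nil) .nil)) .nil) (.nd (.nd (.nd (.nd (.nd (.lf (.wit [2, 1] [0, 0])) (.lf (.wit [4, 1] [0, 0]))) .nil) .nil) (.nd (.nd (.nd (.lf (.wit [2, 1] [0, 0])) (.lf (.wit [2, 1] [0, 0]))) .nil) .nil)) .nil)) .nil) (.nd (.nd (.nd .nil (.nd (.nd .nil (.nd .nil (.nd (.lf (.wit [2, 1] [1, 0])) (.lf (.wit [2, 1] [3, 0]))))) (.nd .nil (.nd .nil (.nd (.lf (.wit [2, 1] [0, 0])) (.lf (.wit [2, 1] [0, 0]))))))) (.nd .nil (.nd (.nd .nil (.nd .nil (.nd (.lf (.wit [2, 1] [0, 0])) (.lf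 (.wit [2, 1] [0, 0]))))) (.nd .nil (.nd .nil (.nd (.lf (.wit [2, 1] [0, 1])) (.lf (.wit [2, 1] [0, 0])))))))) .nil)) (.nd (.nd .nil (.nd (.nd (.nd (.nd .nil (.nd .nil (.nd (.lf (.wit [2, 1] [0, 3])) (.lf (.wit [2, 1] [0, 0]))))) (.nd .nil (.nd .nil (.nd (.lf (.wit [2, 1] [1, 0])) (.lf (.wit [2, 1] [2, 0])))))) .nil) (.nd (.nd (.nd .nil (.nd .nil (.nd (.lf (.wit [2, 1] [0, 0])) (.lf (.wit [2, 1] [0, 0]))))) (.nd .nil (.nd .nil (.nd (.lf (.wit [2, 1] [0, 0])) (.lf (.wit [2, 1] [0, 0])))))) .nil))) (.nd .nil (.nd (.nd .nil (.nd (.nd (.nd (.nd (.lf (.wit [2, 1] [0, 1])) (.lf (.wit [2, 1] [0, 0]))) .nil) .nil) (.nd (.nd (.nd (.lf (.wit [2, 1] [0, 0])) (.lf (.wit [2, 1] [0, 0]))) .nil) .nil))) (.nd .nil (.nd (.nd (.nd (.nd (.lf (.wit [2, 1] [0, 0])) (.lf (.wit [2, 1] [0, 0]))) .nil) .nil)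 (.nd (.nd (.nd (.lf (.wit [2, 1] [0, 0])) (.lf (.wit [4, 1] [0, 0]))) .nil) .nil))))))) (.nd (.nd (.nd (.nd (.nd (.nd (.nd (.nd (.nd (.lf (.wit [2, 1] [0, 0])) (.lf (.wit [4, 3] [1, 1]))) .nil) .nil) (.nd (.nd (.nd (.lf (.wit [2, 1] [0, 0])) (.lf (.wit [2, 1] [0, 0]))) .nil) .nil)) .nil) (.nd (.nd (.nd (.nd (.nd (.lf (.wit [2, 1] [0, 0])) (.lf (.wit [2, 1] [0, 0]))) .nil) .nil) (.nd (.nd (.nd (.lf (.wit [2, 1] [0, 1])) (.lf (.wit [2, 1] [0, 0]))) .nil) .nil)) .nil)) .nil) (.nd (.nd (.nd .nil (.nd (.nd .nil (.nd .nil (.nd (.lf (.wit [2, 1] [0, 0])) (.lf (.wit [2, 1] [0, 3]))))) (.nd .nil (.nd .nil (.nd (.lf (.wit [2, 1] [2, 0])) (.lf (.wit [2, 1] [1, 0]))))))) (.nd .nil (.nd (.nd .nil (.nd .nil (.nd (.lf (.wit [2, 1] [0, 0])) (.lf (.wit [2, 1] [0, 0]))))) (.nd .nil (.nd .nil (.nd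 (.lf (.wit [2, 1] [0, 0])) (.lf (.wit [2, 1] [0, 0])))))))) .nil)) (.nd (.nd .nil (.nd (.nd (.nd (.nd .nil (.nd .nil (.nd (.lf (.wit [2, 1] [3, 0])) (.lf (.wit [2, 1] [1, 0]))))) (.nd .nil (.nd .nil (.nd (.lf (.wit [2, 1] [0, 0])) (.lf (.wit [2, 1] [0, 0])))))) .nil) (.nd (.nd (.nd .nil (.nd .nil (.nd (.lf (.wit [2, 1] [0, 0])) (.lf (.wit [2, 1] [0, 0]))))) (.nd .nil (.nd .nil (.nd (.lf (.wit [2, 1] [0, 0])) (.lf (.wit [2, 1] [0, 1])))))) .nil))) (.nd .nil (.nd (.nd .nil (.nd (.nd (.nd (.nd (.lf (.wit [2, 1] [0, 0])) (.lf (.wit [4, 1] [0, 0]))) .nil) .nil) (.nd (.nd (.nd (.lf (.wit [2, 1] [0, 0])) (.lf (.wit [1, 5] [2, 0]))) .nil) .nil))) (.nd .nil (.nd (.nd (.nd (.nd (.lf (.wit [2, 1] [0, 1])) (.lf (.wit [2, 1] [0, 0]))) .nil) .nil) (.nd (.nd (.nd (.lf (.wit [2, 1] [0, 0])) (.lf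 (.wit [2, 1] [0, 0]))) .nil) .nil))))))))

theorem k2 : chkCand DD ap iv bsL 0 3510 [2, 3] cd2 2 = true := by decide +kernel

/-- The candidates of a coset. -/
def cd3 : CT :=
  (.nd (.nd (.nd (.nd (.nd (.nd (.nd (.nd (.nd (.nd (.lf (.wit [4, 1] [0, 0])) (.lf (.wit [2, 1] [0, 0]))) .nil) .nil) (.nd (.nd (.nd (.lf (.wit [2, 1] [0, 1])) (.lf (.wit [2, 1] [0, 0]))) .nil) .nil)) .nil) (.nd (.nd (.nd (.nd (.nd (.lf (.wit [2, 1] [0, 0])) (.lf (.wit [8, 1] [0, 0]))) .nil) .nil) (.nd (.nd (.nd (.lf (.wit [2, 1] [0, 0])) (.lf (.wit [2, 1] [0, 0]))) .nil) .nil)) .nil)) .nil) (.nd .nil (.nd (.nd .nil (.nd (.nd (.nd .nil (.nd (.lf (.wit [2, 1] [0, 0])) (.lf (.wit [2, 1] [0, 1])))) .nil) (.nd (.nd .nil (.nd (.lf (.wit [2, 1] [0, 0])) (.lf (.wit [2, 1] [0, 0])))) .nil))) (.nd .nil (.nd (.nd (.nd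 .nil (.nd (.lf (.wit [2, 1] [0, 0])) (.lf (.wit [2, 1] [0, 0])))) .nil) (.nd (.nd .nil (.nd (.lf (.wit [2, 1] [2, 0])) (.lf (.wit [2, 1] [1, 0])))) .nil)))))) (.nd (.nd (.nd (.nd (.nd (.nd (.nd .nil (.nd (.lf (.wit [2, 1] [0, 0])) (.lf (.wit [2, 1] [0, 0])))) .nil) (.nd (.nd .nil (.nd (.lf (.wit [2, 1] [0, 0])) (.lf (.wit [2, 1] [0, 0])))) .nil)) .nil) (.nd (.nd (.nd (.nd .nil (.nd (.lf (.wit [2, 1] [2, 0])) (.lf (.wit [2, 1] [1, 0])))) .nil) (.nd (.nd .nil (.nd (.lf (.wit [2, 1] [0, 0])) (.lf (.wit [2, 1] [0, 0])))) .nil)) .nil)) .nil) (.nd .nil (.nd (.nd .nil (.nd (.nd (.nd (.nd (.lf (.wit [2, 1] [0, 1])) (.lf (.wit [2, 1] [0, 0]))) .nil) .nil) (.nd (.nd (.nd (.lf (.wit [2, 1] [0, 0])) (.lf (.wit [2, 1] [0, 0]))) .nil) .nil))) (.nd .nil (.nd (.nd (.nd (.nd (.lf (.wit [2, 1] [0,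 0])) (.lf (.wit [2, 1] [0, 0]))) .nil) .nil) (.nd (.nd (.nd (.lf (.wit [2, 1] [0, 0])) (.lf (.wit [4, 3] [1, 1]))) .nil) .nil))))))) (.nd (.nd (.nd (.nd (.nd (.nd (.nd (.nd (.nd (.lf (.wit [2, 1] [0, 0])) (.lf (.wit [4, 1] [0, 0]))) .nil) .nil) (.nd (.nd (.nd (.lf (.wit [2, 1] [0, 0])) (.lf (.wit [2, 1] [0, 0]))) .nil) .nil)) .nil) (.nd (.nd (.nd (.nd (.nd (.lf (.wit [2, 1] [0, 0])) (.lf (.wit [2, 1] [0, 0]))) .nil) .nil) (.nd (.nd (.nd (.lf (.wit [2, 1] [0, 1])) (.lf (.wit [2, 1] [0, 0]))) .nil) .nil)) .nil)) .nil) (.nd .nil (.nd (.nd .nil (.nd (.nd (.nd .nil (.nd (.lf (.wit [2, 1] [0, 0])) (.lf (.wit [2, 1] [0, 0])))) .nil) (.nd (.nd .nil (.nd (.lf (.wit [2, 1] [0, 0])) (.lf (.wit [2, 1] [0, 0])))) .nil))) (.nd .nil (.nd (.nd (.nd .nil (.nd (.lf (.wit [2, 1] [1, 0])) (.lf (.wit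 [2, 1] [2, 0])))) .nil) (.nd (.nd .nil (.nd (.lf (.wit [2, 1] [0, 0])) (.lf (.wit [2, 1] [0, 0])))) .nil)))))) (.nd (.nd (.nd (.nd (.nd (.nd (.nd .nil (.nd (.lf (.wit [2, 1] [0, 1])) (.lf (.wit [2, 1] [0, 0])))) .nil) (.nd (.nd .nil (.nd (.lf (.wit [2, 1] [0, 0])) (.lf (.wit [2, 1] [0, 0])))) .nil)) .nil) (.nd (.nd (.nd (.nd .nil (.nd (.lf (.wit [2, 1] [0, 0])) (.lf (.wit [2, 1] [0, 0])))) .nil) (.nd (.nd .nil (.nd (.lf (.wit [2, 1] [1, 0])) (.lf (.wit [2, 1] [2, 0])))) .nil)) .nil)) .nil) (.nd .nil (.nd (.nd .nil (.nd (.nd (.nd (.nd (.lf (.wit [2, 1] [0, 0])) (.lf (.wit [3, 1] [0, 0]))) .nil) .nil) (.nd (.nd (.nd (.lf (.wit [2, 1] [0, 0])) (.lf (.wit [4, 1] [0, 0]))) .nil) .nil))) (.nd .nil (.nd (.nd (.nd (.nd (.lf (.wit [2, 1] [0, 1])) (.lf (.wit [2, 1] [0, 0]))) .nil) .nil) (.nd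 (.nd (.nd (.lf (.wit [2, 1] [0, 0])) (.lf (.wit [2, 1] [0, 0]))) .nil) .nil))))))))

theorem k3 : chkCand DD ap iv bsL 0 3510 [2, 3] cd3 3 = true := by decide +kernel

/-- The candidates of a coset. -/
def cd4 : CT :=
  (.nd (.nd (.nd (.nd (.nd (.nd (.nd (.nd (.nd (.nd (.lf (.wit [4, 1] [0, 0])) (.lf (.wit [2, 1] [0, 0]))) .nil) .nil) (.nd (.nd (.nd (.lf (.wit [2, 1] [0, 0])) (.lf (.wit [2, 1] [0, 0]))) .nil) .nil)) .nil) .nil) (.nd (.nd (.nd (.nd (.nd (.nd (.lf (.wit [2, 1] [0, 0])) (.lf (.wit [7, 6] [0, 0]))) .nil) .nil) (.nd (.nd (.nd (.lf (.wit [2, 1] [0, 0])) (.lf (.wit [2, 1] [0, 0]))) .nil) .nil)) .nil) .nil)) (.nd (.nd .nil (.nd .nil (.nd (.nd (.nd .nil (.nd (.lf (.wit [2, 1] [0, 0])) (.lf (.wit [2, 1] [0, 0])))) .nil) (.nd (.nd .nil (.nd (.lf (.wit [2, 1] [0, 0])) (.lf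 (.wit [2, 1] [0, 0])))) .nil)))) (.nd .nil (.nd .nil (.nd (.nd (.nd .nil (.nd (.lf (.wit [4, 1] [0, 0])) (.lf (.wit [2, 1] [0, 0])))) .nil) (.nd (.nd .nil (.nd (.lf (.wit [4, 3] [0, 0])) (.lf (.wit [2, 1] [0, 0])))) .nil)))))) (.nd (.nd (.nd .nil (.nd .nil (.nd (.nd .nil (.nd (.nd (.lf (.wit [2, 1] [0, 0])) (.lf (.wit [2, 1] [0, 0]))) .nil)) (.nd .nil (.nd (.nd (.lf (.wit [2, 1] [0, 0])) (.lf (.wit [2, 1] [0, 0]))) .nil))))) (.nd .nil (.nd .nil (.nd (.nd .nil (.nd (.nd (.lf (.wit [2, 1] [0, 0])) (.lf (.wit [4, 1] [0, 0]))) .nil)) (.nd .nil (.nd (.nd (.lf (.wit [2, 1] [0, 0])) (.lf (.wit [2, 1] [0, 0]))) .nil)))))) (.nd (.nd (.nd (.nd (.nd .nil (.nd .nil (.nd (.lf (.wit [2, 1] [0, 0])) (.lf (.wit [2, 1] [0, 0]))))) (.nd .nil (.nd .nil (.nd (.lf (.wit [2, 1] [0, 0])) (.lf (.wit [2,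 1] [0, 0])))))) .nil) .nil) (.nd (.nd (.nd (.nd .nil (.nd .nil (.nd (.lf (.wit [7, 6] [0, 0])) (.lf (.wit [2, 1] [0, 0]))))) (.nd .nil (.nd .nil (.nd (.lf (.wit [2, 1] [0, 0])) (.lf (.wit [2, 1] [0, 0])))))) .nil) .nil)))) (.nd (.nd (.nd (.nd (.nd .nil (.nd (.nd .nil (.nd .nil (.nd (.lf (.wit [2, 1] [0, 0])) (.lf (.wit [2, 1] [0, 0]))))) (.nd .nil (.nd .nil (.nd (.lf (.wit [2, 1] [0, 0])) (.lf (.wit [2, 1] [0, 0]))))))) .nil) (.nd (.nd .nil (.nd (.nd .nil (.nd .nil (.nd (.lf (.wit [2, 1] [0, 0])) (.lf (.wit [2, 1] [0, 0]))))) (.nd .nil (.nd .nil (.nd (.lf (.wit [2, 1] [0, 0])) (.lf (.wit [2, 1] [0, 0]))))))) .nil)) (.nd (.nd .nil (.nd (.nd (.nd .nil (.nd (.nd (.lf (.wit [2, 1] [0, 0])) (.lf (.wit [2, 1] [0, 0]))) .nil)) (.nd .nil (.nd (.nd (.lf (.wit [2, 1] [0, 0])) (.lf (.wit [2,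 1] [0, 0]))) .nil))) .nil)) (.nd .nil (.nd (.nd (.nd .nil (.nd (.nd (.lf (.wit [2, 1] [0, 0])) (.lf (.wit [2, 1] [0, 0]))) .nil)) (.nd .nil (.nd (.nd (.lf (.wit [2, 1] [1, 0])) (.lf (.wit [2, 1] [0, 0]))) .nil))) .nil)))) (.nd (.nd (.nd .nil (.nd (.nd (.nd (.nd .nil (.nd (.lf (.wit [2, 1] [0, 0])) (.lf (.wit [2, 1] [0, 0])))) .nil) (.nd (.nd .nil (.nd (.lf (.wit [2, 1] [0, 0])) (.lf (.wit [2, 1] [0, 0])))) .nil)) .nil)) (.nd .nil (.nd (.nd (.nd (.nd .nil (.nd (.lf (.wit [2, 1] [0, 0])) (.lf (.wit [2, 1] [0, 0])))) .nil) (.nd (.nd .nil (.nd (.lf (.wit [2, 1] [0, 0])) (.lf (.wit [2, 1] [0, 0])))) .nil)) .nil))) (.nd (.nd (.nd .nil (.nd (.nd (.nd (.nd (.lf (.wit [2, 1] [0, 0])) (.lf (.wit [2, 1] [0, 0]))) .nil) .nil) (.nd (.nd (.nd (.lf (.wit [2, 1] [0, 0])) (.lf (.wit [2, 1] [0, 0])))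 .nil) .nil))) .nil) (.nd (.nd .nil (.nd (.nd (.nd (.nd (.lf (.wit [2, 1] [0, 0])) (.lf (.wit [2, 1] [0, 0]))) .nil) .nil) (.nd (.nd (.nd (.lf (.wit [2, 1] [1, 0])) (.lf (.wit [2, 1] [0, 0]))) .nil) .nil))) .nil)))))

theorem k4 : chkCand DD ap iv bsL 0 3510 [2, 3] cd4 4 = true := by decide +kernel

/-- The candidates of a coset. -/
def cd7 : CT :=
  (.nd (.nd (.nd (.nd (.nd (.nd (.nd (.nd (.nd (.nd (.lf (.wit [3, 1] [0, 0])) (.lf (.wit [2, 1] [0, 0]))) .nil) (.nd (.nd (.lf (.wit [2, 1] [0, 0])) (.lf (.wit [3, 1] [0, 0]))) .nil)) (.nd (.nd (.nd (.lf (.wit [2, 1] [0, 0])) (.lf (.wit [2, 1] [0, 0]))) .nil) (.nd (.nd (.lf (.wit [2, 1] [0, 0])) (.lf (.wit [2, 1] [0, 0]))) .nil))) .nil) .nil) (.nd .nil (.nd .nil (.nd (.nd (.nd .nil (.nd (.lf (.wit [2, 1] [0, 0])) (.lf (.wit [2, 1] [0,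 0])))) (.nd .nil (.nd (.lf (.wit [2, 1] [0, 0])) (.lf (.wit [2, 1] [0, 0]))))) (.nd (.nd .nil (.nd (.lf (.wit [2, 1] [0, 0])) (.lf (.wit [2, 1] [0, 0])))) (.nd .nil (.nd (.lf (.wit [2, 1] [0, 0])) (.lf (.wit [2, 1] [0, 0]))))))))) (.nd (.nd (.nd (.nd (.nd (.nd (.nd (.lf (.wit [2, 1] [0, 0])) (.lf (.wit [2, 1] [0, 0]))) .nil) (.nd (.nd (.lf (.wit [1, 5] [0, 0])) (.lf (.wit [2, 1] [0, 0]))) .nil)) (.nd (.nd (.nd (.lf (.wit [2, 1] [0, 0])) (.lf (.wit [2, 1] [0, 0]))) .nil) (.nd (.nd (.lf (.wit [2, 1] [0, 0])) (.lf (.wit [2, 1] [0, 0]))) .nil))) .nil) .nil) (.nd .nil (.nd .nil (.nd (.nd (.nd .nil (.nd (.lf (.wit [2, 1] [0, 0])) (.lf (.wit [2, 1] [0, 0])))) (.nd .nil (.nd (.lf (.wit [2, 1] [0, 0])) (.lf (.wit [2, 1] [0, 0]))))) (.nd (.nd .nil (.nd (.lf (.wit [2, 1] [0, 0])) (.lf (.wit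 [2, 1] [0, 0])))) (.nd .nil (.nd (.lf (.wit [2, 1] [0, 0])) (.lf (.wit [2, 1] [0, 0])))))))))) .nil) (.nd .nil (.nd (.nd (.nd .nil (.nd (.nd (.nd (.nd .nil (.nd (.lf (.wit [2, 1] [0, 0])) (.lf (.wit [4, 1] [0, 0])))) (.nd .nil (.nd (.lf (.wit [2, 1] [0, 0])) (.lf (.wit [2, 1] [0, 0]))))) (.nd (.nd .nil (.nd (.lf (.wit [2, 1] [0, 0])) (.lf (.wit [3, 1] [0, 0])))) (.nd .nil (.nd (.lf (.wit [2, 1] [0, 0])) (.lf (.wit [2, 1] [0, 0])))))) .nil)) (.nd (.nd .nil (.nd (.nd (.nd (.nd (.lf (.wit [2, 1] [0, 0])) (.lf (.wit [2, 1] [0, 0]))) .nil) (.nd (.nd (.lf (.wit [2, 1] [0, 0])) (.lf (.wit [2, 1] [0, 0]))) .nil)) (.nd (.nd (.nd (.lf (.wit [2, 1] [0, 0])) (.lf (.wit [2, 1] [1, 0]))) .nil) (.nd (.nd (.lf (.wit [2, 1] [0, 0])) (.lf (.wit [2, 1] [0, 0]))) .nil)))) .nil)) (.nd (.nd .nil (.nd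 (.nd (.nd (.nd .nil (.nd (.lf (.wit [4, 1] [0, 0])) (.lf (.wit [2, 1] [0, 0])))) (.nd .nil (.nd (.lf (.wit [2, 1] [0, 0])) (.lf (.wit [2, 1] [0, 0]))))) (.nd (.nd .nil (.nd (.lf (.wit [2, 1] [0, 0])) (.lf (.wit [2, 1] [0, 0])))) (.nd .nil (.nd (.lf (.wit [2, 1] [0, 0])) (.lf (.wit [2, 1] [0, 0])))))) .nil)) (.nd (.nd .nil (.nd (.nd (.nd (.nd (.lf (.wit [2, 1] [0, 0])) (.lf (.wit [2, 1] [0, 0]))) .nil) (.nd (.nd (.lf (.wit [2, 1] [0, 0])) (.lf (.wit [2, 1] [0, 0]))) .nil)) (.nd (.nd (.nd (.lf (.wit [2, 1] [1, 0])) (.lf (.wit [2, 1] [0, 0]))) .nil) (.nd (.nd (.lf (.wit [2, 1] [0, 0])) (.lf (.wit [2, 1] [0, 0]))) .nil)))) .nil)))))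

theorem k7 : chkCand DD ap iv bsL 0 3510 [2, 3] cd7 7 = true := by decide +kernel

/-- The candidates of a coset. -/
def cd8 : CT :=
  (.nd (.nd (.nd (.nd (.nd (.nd (.nd (.nd (.nd (.nd (.lf (.wit [4, 1] [0, 0])) (.lf (.wit [2, 1] [0, 0]))) .nil) .nil) (.nd (.nd (.nd (.lf (.wit [2, 1] [0, 0])) (.lf (.wit [2, 1] [0, 1]))) .nil) .nil)) (.nd (.nd (.nd .nil (.nd (.lf (.wit [2, 1] [0, 0])) (.lf (.wit [2, 1] [0, 0])))) .nil) (.nd (.nd .nil (.nd (.lf (.wit [2, 1] [0, 0])) (.lf (.wit [2, 1] [0, 1])))) .nil))) (.nd (.nd (.nd (.nd (.nd (.lf (.wit [4, 1] [0, 0])) (.lf (.wit [2, 1] [1, 0]))) .nil) .nil) (.nd (.nd (.nd (.lf (.wit [2, 1] [0, 0])) (.lf (.wit [2, 1] [0, 0]))) .nil) .nil)) (.nd (.nd (.nd .nil (.nd (.lf (.wit [2, 1] [0, 1])) (.lf (.wit [2, 1] [0, 0])))) .nil) (.nd (.nd .nil (.nd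 (.lf (.wit [2, 1] [0, 0])) (.lf (.wit [2, 1] [0, 0])))) .nil)))) .nil) .nil) (.nd .nil (.nd .nil (.nd (.nd (.nd (.nd (.nd .nil (.nd (.lf (.wit [2, 1] [0, 0])) (.lf (.wit [3, 1] [0, 0])))) .nil) (.nd (.nd .nil (.nd (.lf (.wit [2, 1] [0, 0])) (.lf (.wit [2, 1] [0, 0])))) .nil)) (.nd (.nd (.nd (.nd (.lf (.wit [2, 1] [0, 0])) (.lf (.wit [2, 1] [0, 1]))) .nil) .nil) (.nd (.nd (.nd (.lf (.wit [2, 1] [0, 3])) (.lf (.wit [2, 1] [0, 0]))) .nil) .nil))) (.nd (.nd (.nd (.nd .nil (.nd (.lf (.wit [2, 1] [0, 0])) (.lf (.wit [4, 1] [0, 0])))) .nil) (.nd (.nd .nil (.nd (.lf (.wit [2, 1] [0, 0])) (.lf (.wit [2, 1] [0, 0])))) .nil)) (.nd (.nd (.nd (.nd (.lf (.wit [2, 1] [0, 0])) (.lf (.wit [2, 1] [0, 0]))) .nil) .nil) (.nd (.nd (.nd (.lf (.wit [2, 1] [3, 0])) (.lf (.wit [2, 1] [1, 0]))) .nil) .nil)))))))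 (.nd (.nd (.nd (.nd (.nd (.nd (.nd (.nd (.nd (.lf (.wit [3, 1] [0, 0])) (.lf (.wit [2, 1] [1, 0]))) .nil) .nil) (.nd (.nd (.nd (.lf (.wit [2, 1] [0, 0])) (.lf (.wit [2, 1] [0, 0]))) .nil) .nil)) (.nd (.nd (.nd .nil (.nd (.lf (.wit [2, 1] [0, 1])) (.lf (.wit [2, 1] [0, 0])))) .nil) (.nd (.nd .nil (.nd (.lf (.wit [2, 1] [0, 0])) (.lf (.wit [2, 1] [0, 0])))) .nil))) (.nd (.nd (.nd (.nd (.nd (.lf (.wit [3, 1] [0, 0])) (.lf (.wit [2, 1] [0, 0]))) .nil) .nil) (.nd (.nd (.nd (.lf (.wit [2, 1] [0, 0])) (.lf (.wit [2, 1] [0, 1]))) .nil) .nil)) (.nd (.nd (.nd .nil (.nd (.lf (.wit [2, 1] [0, 0])) (.lf (.wit [2, 1] [0, 0])))) .nil) (.nd (.nd .nil (.nd (.lf (.wit [2, 1] [0, 0])) (.lf (.wit [2, 1] [0, 1])))) .nil)))) .nil) .nil) (.nd .nil (.nd .nil (.nd (.nd (.nd (.nd (.nd .nil (.nd (.lf (.wit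 [2, 1] [0, 0])) (.lf (.wit [4, 1] [0, 0])))) .nil) (.nd (.nd .nil (.nd (.lf (.wit [2, 1] [0, 0])) (.lf (.wit [2, 1] [0, 0])))) .nil)) (.nd (.nd (.nd (.nd (.lf (.wit [2, 1] [0, 0])) (.lf (.wit [2, 1] [0, 0]))) .nil) .nil) (.nd (.nd (.nd (.lf (.wit [3, 1] [0, 0])) (.lf (.wit [2, 1] [1, 0]))) .nil) .nil))) (.nd (.nd (.nd (.nd .nil (.nd (.lf (.wit [2, 1] [0, 0])) (.lf (.wit [4, 1] [0, 0])))) .nil) (.nd (.nd .nil (.nd (.lf (.wit [2, 1] [0, 0])) (.lf (.wit [2, 1] [0, 0])))) .nil)) (.nd (.nd (.nd (.nd (.lf (.wit [2, 1] [0, 0])) (.lf (.wit [2, 1] [0, 1]))) .nil) .nil) (.nd (.nd (.nd (.lf (.wit [2, 1] [0, 3])) (.lf (.wit [2, 1] [0, 0]))) .nil) .nil))))))))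

theorem k8 : chkCand DD ap iv bsL 0 3510 [2, 3] cd8 8 = true := by decide +kernel

/-- The candidates of a coset. -/
def cd9 : CT :=
  (.nd (.nd (.nd (.nd (.nd (.nd (.nd (.nd (.nd (.nd (.lf (.wit [3, 1] [0, 0])) (.lf (.wit [2, 1] [0, 0]))) .nil) .nil) (.nd (.nd (.nd (.lf (.wit [2, 1] [0, 0])) (.lf (.wit [2, 1] [0, 1]))) .nil) .nil)) .nil) (.nd (.nd (.nd (.nd (.nd (.lf (.wit [3, 1] [0, 0])) (.lf (.wit [2, 1] [1, 0]))) .nil) .nil) (.nd (.nd (.nd (.lf (.wit [2, 1] [0, 0])) (.lf (.wit [2, 1] [0, 0]))) .nil) .nil)) .nil)) (.nd (.nd .nil (.nd (.nd .nil (.nd .nil (.nd (.lf (.wit [2, 1] [0, 0])) (.lf (.wit [2, 1] [0, 0]))))) (.nd .nil (.nd .nil (.nd (.lf (.wit [2, 1] [0, 0])) (.lf (.wit [2, 1] [0, 1]))))))) (.nd .nil (.nd (.nd .nil (.nd .nil (.nd (.lf (.wit [2, 1] [0, 0])) (.lf (.wit [2,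 1] [0, 0]))))) (.nd .nil (.nd .nil (.nd (.lf (.wit [2, 1] [0, 0])) (.lf (.wit [2, 1] [0, 0]))))))))) .nil) (.nd .nil (.nd (.nd (.nd (.nd (.nd .nil (.nd .nil (.nd (.lf (.wit [2, 1] [0, 0])) (.lf (.wit [4, 3] [1, 1]))))) (.nd .nil (.nd .nil (.nd (.lf (.wit [2, 1] [0, 0])) (.lf (.wit [2, 1] [0, 0])))))) .nil) (.nd (.nd (.nd .nil (.nd .nil (.nd (.lf (.wit [2, 1] [0, 0])) (.lf (.wit [4, 1] [0, 0]))))) (.nd .nil (.nd .nil (.nd (.lf (.wit [2, 1] [0, 1])) (.lf (.wit [2, 1] [0, 0])))))) .nil)) (.nd (.nd .nil (.nd (.nd (.nd (.nd (.lf (.wit [2, 1] [0, 0])) (.lf (.wit [2, 1] [0, 1]))) .nil) .nil) (.nd (.nd (.nd (.lf (.wit [2, 1] [0, 3])) (.lf (.wit [2, 1] [0, 0]))) .nil) .nil))) (.nd .nil (.nd (.nd (.nd (.nd (.lf (.wit [2, 1] [0, 0])) (.lf (.wit [2, 1] [0, 0]))) .nil) .nil) (.nd (.nd (.nd (.lf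 (.wit [2, 1] [3, 0])) (.lf (.wit [2, 1] [1, 0]))) .nil) .nil))))))) (.nd (.nd (.nd (.nd (.nd (.nd (.nd (.nd (.nd (.lf (.wit [4, 1] [0, 0])) (.lf (.wit [2, 1] [1, 0]))) .nil) .nil) (.nd (.nd (.nd (.lf (.wit [2, 1] [0, 0])) (.lf (.wit [2, 1] [0, 0]))) .nil) .nil)) .nil) (.nd (.nd (.nd (.nd (.nd (.lf (.wit [4, 1] [0, 0])) (.lf (.wit [2, 1] [0, 0]))) .nil) .nil) (.nd (.nd (.nd (.lf (.wit [2, 1] [0, 0])) (.lf (.wit [2, 1] [0, 1]))) .nil) .nil)) .nil)) (.nd (.nd .nil (.nd (.nd .nil (.nd .nil (.nd (.lf (.wit [2, 1] [0, 0])) (.lf (.wit [2, 1] [0, 0]))))) (.nd .nil (.nd .nil (.nd (.lf (.wit [2, 1] [0, 0])) (.lf (.wit [2, 1] [0, 0]))))))) (.nd .nil (.nd (.nd .nil (.nd .nil (.nd (.lf (.wit [2, 1] [0, 0])) (.lf (.wit [2, 1] [0, 0]))))) (.nd .nil (.nd .nil (.nd (.lf (.wit [2, 1] [0, 0])) (.lf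 (.wit [2, 1] [0, 1]))))))))) .nil) (.nd .nil (.nd (.nd (.nd (.nd (.nd .nil (.nd .nil (.nd (.lf (.wit [2, 1] [0, 0])) (.lf (.wit [4, 1] [0, 0]))))) (.nd .nil (.nd .nil (.nd (.lf (.wit [2, 1] [0, 1])) (.lf (.wit [2, 1] [0, 0])))))) .nil) (.nd (.nd (.nd .nil (.nd .nil (.nd (.lf (.wit [2, 1] [0, 0])) (.lf (.wit [4, 1] [0, 0]))))) (.nd .nil (.nd .nil (.nd (.lf (.wit [2, 1] [0, 0])) (.lf (.wit [2, 1] [0, 0])))))) .nil)) (.nd (.nd .nil (.nd (.nd (.nd (.nd (.lf (.wit [2, 1] [0, 0])) (.lf (.wit [2, 1] [0, 0]))) .nil) .nil) (.nd (.nd (.nd (.lf (.wit [4, 1] [0, 0])) (.lf (.wit [2, 1] [1, 0]))) .nil) .nil))) (.nd .nil (.nd (.nd (.nd (.nd (.lf (.wit [2, 1] [0, 0])) (.lf (.wit [2, 1] [0, 1]))) .nil) .nil) (.nd (.nd (.nd (.lf (.wit [2, 1] [0, 3])) (.lf (.wit [2, 1] [0, 0]))) .nil) .nil))))))))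

theorem k9 : chkCand DD ap iv bsL 0 3510 [2, 3] cd9 9 = true := by decide +kernel

/-- The candidates of a coset. -/
def cd10 : CT :=
  (.nd (.nd (.nd (.nd (.nd (.nd (.nd (.nd (.nd (.nd (.lf (.wit [2, 1] [0, 0])) (.lf (.wit [3, 1] [0, 0]))) .nil) .nil) (.nd (.nd (.nd (.lf (.wit [2, 1] [0, 0])) (.lf (.wit [2, 1] [0, 0]))) .nil) .nil)) .nil) (.nd (.nd (.nd (.nd (.nd (.lf (.wit [2, 1] [0, 0])) (.lf (.wit [2, 1] [0, 0]))) .nil) .nil) (.nd (.nd (.nd (.lf (.wit [2, 1] [0, 1])) (.lf (.wit [2, 1] [0, 0]))) .nil) .nil)) .nil)) .nil) (.nd (.nd (.nd (.nd (.nd .nil (.nd (.nd (.lf (.wit [2, 1] [1, 0])) (.lf (.wit [2, 1] [3, 0]))) .nil)) (.nd .nil (.nd (.nd (.lf (.wit [2, 1] [0, 0])) (.lf (.wit [2, 1] [0, 0]))) .nil))) .nil) (.nd (.nd (.nd .nil (.nd (.nd (.lf (.wit [2, 1] [0, 0])) (.lf (.wit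 [2, 1] [0, 0]))) .nil)) (.nd .nil (.nd (.nd (.lf (.wit [2, 1] [2, 0])) (.lf (.wit [2, 1] [1, 0]))) .nil))) .nil)) .nil)) (.nd (.nd .nil (.nd (.nd .nil (.nd (.nd .nil (.nd (.nd (.lf (.wit [2, 1] [0, 0])) (.lf (.wit [2, 1] [0, 0]))) .nil)) (.nd .nil (.nd (.nd (.lf (.wit [2, 1] [1, 0])) (.lf (.wit [2, 1] [2, 0]))) .nil)))) (.nd .nil (.nd (.nd .nil (.nd (.nd (.lf (.wit [2, 1] [3, 0])) (.lf (.wit [2, 1] [1, 0]))) .nil)) (.nd .nil (.nd (.nd (.lf (.wit [2, 1] [0, 0])) (.lf (.wit [2, 1] [0, 0]))) .nil)))))) (.nd .nil (.nd (.nd .nil (.nd (.nd (.nd (.nd (.lf (.wit [2, 1] [0, 0])) (.lf (.wit [2, 1] [0, 0]))) .nil) .nil) (.nd (.nd (.nd (.lf (.wit [2, 1] [0, 0])) (.lf (.wit [3, 1] [0, 0]))) .nil) .nil))) (.nd .nil (.nd (.nd (.nd (.nd (.lf (.wit [2, 1] [0, 1])) (.lf (.wit [2, 1] [0, 0]))) .nil)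 .nil) (.nd (.nd (.nd (.lf (.wit [2, 1] [0, 0])) (.lf (.wit [2, 1] [0, 0]))) .nil) .nil))))))) (.nd (.nd (.nd (.nd (.nd (.nd (.nd (.nd (.nd (.lf (.wit [2, 1] [0, 0])) (.lf (.wit [2, 1] [0, 0]))) .nil) .nil) (.nd (.nd (.nd (.lf (.wit [2, 1] [0, 1])) (.lf (.wit [2, 1] [0, 0]))) .nil) .nil)) .nil) (.nd (.nd (.nd (.nd (.nd (.lf (.wit [2, 1] [0, 0])) (.lf (.wit [4, 1] [3, 0]))) .nil) .nil) (.nd (.nd (.nd (.lf (.wit [2, 1] [0, 0])) (.lf (.wit [4, 3] [1, 1]))) .nil) .nil)) .nil)) .nil) (.nd (.nd (.nd (.nd (.nd .nil (.nd (.nd (.lf (.wit [2, 1] [0, 0])) (.lf (.wit [2, 1] [0, 3]))) .nil)) (.nd .nil (.nd (.nd (.lf (.wit [2, 1] [0, 1])) (.lf (.wit [2, 1] [0, 0]))) .nil))) .nil) (.nd (.nd (.nd .nil (.nd (.nd (.lf (.wit [2, 1] [0, 0])) (.lf (.wit [2, 1] [0, 0]))) .nil)) (.nd .nil (.nd (.nd (.lf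 (.wit [2, 1] [0, 0])) (.lf (.wit [2, 1] [0, 0]))) .nil))) .nil)) .nil)) (.nd (.nd .nil (.nd (.nd .nil (.nd (.nd .nil (.nd (.nd (.lf (.wit [2, 1] [0, 0])) (.lf (.wit [2, 1] [0, 0]))) .nil)) (.nd .nil (.nd (.nd (.lf (.wit [2, 1] [0, 0])) (.lf (.wit [2, 1] [0, 0]))) .nil)))) (.nd .nil (.nd (.nd .nil (.nd (.nd (.lf (.wit [2, 1] [0, 3])) (.lf (.wit [2, 1] [0, 0]))) .nil)) (.nd .nil (.nd (.nd (.lf (.wit [2, 1] [0, 0])) (.lf (.wit [2, 1] [0, 1]))) .nil)))))) (.nd .nil (.nd (.nd .nil (.nd (.nd (.nd (.nd (.lf (.wit [2, 1] [0, 1])) (.lf (.wit [2, 1] [0, 0]))) .nil) .nil) (.nd (.nd (.nd (.lf (.wit [3, 1] [0, 0])) (.lf (.wit [2, 1] [0, 0]))) .nil) .nil))) (.nd .nil (.nd (.nd (.nd (.nd (.lf (.wit [2, 1] [0, 0])) (.lf (.wit [2, 1] [0, 0]))) .nil) .nil) (.nd (.nd (.nd (.lf (.wit [2, 1] [0, 0]))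 (.lf (.wit [4, 1] [2, 0]))) .nil) .nil))))))))

theorem k10 : chkCand DD ap iv bsL 0 3510 [2, 3] cd10 10 = true := by decide +kernel

/-- The candidates of a coset. -/
def cd11 : CT :=
  (.nd (.nd (.nd (.nd (.nd (.nd (.nd (.nd (.nd (.nd (.lf (.wit [2, 1] [0, 0])) (.lf (.wit [4, 1] [0, 0]))) .nil) .nil) (.nd (.nd (.nd (.lf (.wit [2, 1] [0, 0])) (.lf (.wit [2, 1] [0, 0]))) .nil) .nil)) .nil) (.nd (.nd (.nd (.nd (.nd (.lf (.wit [2, 1] [0, 0])) (.lf (.wit [2, 1] [0, 0]))) .nil) .nil) (.nd (.nd (.nd (.lf (.wit [2, 1] [0, 1])) (.lf (.wit [2, 1] [0, 0]))) .nil) .nil)) .nil)) .nil) (.nd .nil (.nd (.nd (.nd (.nd (.nd (.nd (.lf (.wit [2, 1] [1, 0])) (.lf (.wit [2, 1] [2, 0]))) .nil) .nil) (.nd (.nd (.nd (.lf (.wit [2, 1] [0, 0])) (.lf (.wit [2, 1] [0, 0]))) .nil) .nil)) .nil) (.nd (.nd (.nd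 (.nd (.nd (.lf (.wit [2, 1] [0, 0])) (.lf (.wit [2, 1] [0, 0]))) .nil) .nil) (.nd (.nd (.nd (.lf (.wit [2, 1] [2, 0])) (.lf (.wit [2, 1] [1, 0]))) .nil) .nil)) .nil)))) (.nd (.nd (.nd (.nd .nil (.nd (.nd (.nd (.nd (.lf (.wit [2, 1] [0, 0])) (.lf (.wit [2, 1] [0, 0]))) .nil) .nil) (.nd (.nd (.nd (.lf (.wit [2, 1] [1, 0])) (.lf (.wit [2, 1] [2, 0]))) .nil) .nil))) (.nd .nil (.nd (.nd (.nd (.nd (.lf (.wit [2, 1] [2, 0])) (.lf (.wit [2, 1] [1, 0]))) .nil) .nil) (.nd (.nd (.nd (.lf (.wit [2, 1] [0, 0])) (.lf (.wit [2, 1] [0, 0]))) .nil) .nil)))) .nil) (.nd .nil (.nd (.nd .nil (.nd (.nd (.nd (.nd (.lf (.wit [2, 1] [0, 0])) (.lf (.wit [2, 1] [0, 0]))) .nil) .nil) (.nd (.nd (.nd (.lf (.wit [2, 1] [0, 0])) (.lf (.wit [4, 1] [0, 0]))) .nil) .nil))) (.nd .nil (.nd (.nd (.nd (.nd (.lf (.wit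 [2, 1] [0, 1])) (.lf (.wit [2, 1] [0, 0]))) .nil) .nil) (.nd (.nd (.nd (.lf (.wit [2, 1] [0, 0])) (.lf (.wit [2, 1] [0, 0]))) .nil) .nil))))))) (.nd (.nd (.nd (.nd (.nd (.nd (.nd (.nd (.nd (.lf (.wit [2, 1] [0, 0])) (.lf (.wit [2, 1] [0, 0]))) .nil) .nil) (.nd (.nd (.nd (.lf (.wit [2, 1] [0, 1])) (.lf (.wit [2, 1] [0, 0]))) .nil) .nil)) .nil) (.nd (.nd (.nd (.nd (.nd (.lf (.wit [2, 1] [0, 0])) (.lf (.wit [3, 1] [0, 0]))) .nil) .nil) (.nd (.nd (.nd (.lf (.wit [2, 1] [0, 0])) (.lf (.wit [3, 1] [0, 0]))) .nil) .nil)) .nil)) .nil) (.nd .nil (.nd (.nd (.nd (.nd (.nd (.nd (.lf (.wit [2, 1] [0, 0])) (.lf (.wit [2, 1] [0, 0]))) .nil) .nil) (.nd (.nd (.nd (.lf (.wit [2, 1] [0, 0])) (.lf (.wit [2, 1] [0, 0]))) .nil) .nil)) .nil) (.nd (.nd (.nd (.nd (.nd (.lf (.wit [2, 1] [0, 0])) (.lf (.wit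 [2, 1] [0, 1]))) .nil) .nil) (.nd (.nd (.nd (.lf (.wit [2, 1] [0, 0])) (.lf (.wit [2, 1] [0, 0]))) .nil) .nil)) .nil)))) (.nd (.nd (.nd (.nd .nil (.nd (.nd (.nd (.nd (.lf (.wit [2, 1] [0, 1])) (.lf (.wit [2, 1] [0, 0]))) .nil) .nil) (.nd (.nd (.nd (.lf (.wit [2, 1] [0, 0])) (.lf (.wit [2, 1] [0, 0]))) .nil) .nil))) (.nd .nil (.nd (.nd (.nd (.nd (.lf (.wit [2, 1] [0, 0])) (.lf (.wit [2, 1] [0, 0]))) .nil) .nil) (.nd (.nd (.nd (.lf (.wit [2, 1] [0, 0])) (.lf (.wit [2, 1] [0, 0]))) .nil) .nil)))) .nil) (.nd .nil (.nd (.nd .nil (.nd (.nd (.nd (.nd (.lf (.wit [2, 1] [0, 1])) (.lf (.wit [2, 1] [0, 0]))) .nil) .nil) (.nd (.nd (.nd (.lf (.wit [4, 1] [0, 0])) (.lf (.wit [2, 1] [0, 0]))) .nil) .nil))) (.nd .nil (.nd (.nd (.nd (.nd (.lf (.wit [2, 1] [0, 0])) (.lf (.wit [2, 1] [0, 0]))) .nil)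 .nil) (.nd (.nd (.nd (.lf (.wit [2, 1] [0, 0])) (.lf (.wit [3, 1] [0, 0]))) .nil) .nil))))))))

theorem k11 : chkCand DD ap iv bsL 0 3510 [2, 3] cd11 11 = true := by decide +kernel

/-- The candidates of a coset. -/
def cd13 : CT :=
  (.nd (.nd (.nd (.nd (.nd (.nd (.nd (.nd (.nd (.nd (.lf (.wit [2, 1] [0, 0])) (.lf (.wit [4, 1] [0, 0]))) .nil) .nil) (.nd (.nd (.nd (.lf (.wit [2, 1] [0, 0])) (.lf (.wit [2, 1] [0, 0]))) .nil) .nil)) (.nd (.nd (.nd (.nd (.lf (.wit [2, 1] [0, 0])) (.lf (.wit [4, 1] [0, 0]))) .nil) .nil) (.nd (.nd (.nd (.lf (.wit [2, 1] [0, 0])) (.lf (.wit [2, 1] [0, 0]))) .nil) .nil))) .nil) (.nd .nil (.nd (.nd (.nd .nil (.nd .nil (.nd (.lf (.wit [2, 1] [0, 0])) (.lf (.wit [2, 1] [0, 0]))))) (.nd .nil (.nd .nil (.nd (.lf (.wit [2, 1] [0, 0])) (.lf (.wit [2, 1] [0, 0]))))))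 (.nd (.nd .nil (.nd .nil (.nd (.lf (.wit [2, 1] [0, 0])) (.lf (.wit [2, 1] [0, 0]))))) (.nd .nil (.nd .nil (.nd (.lf (.wit [2, 1] [0, 0])) (.lf (.wit [2, 1] [0, 0]))))))))) .nil) (.nd (.nd (.nd (.nd (.nd (.nd (.nd .nil (.nd (.lf (.wit [2, 1] [0, 0])) (.lf (.wit [2, 1] [0, 0])))) .nil) (.nd (.nd .nil (.nd (.lf (.wit [2, 1] [0, 0])) (.lf (.wit [2, 1] [0, 0])))) .nil)) (.nd (.nd (.nd .nil (.nd (.lf (.wit [2, 1] [0, 0])) (.lf (.wit [2, 1] [0, 0])))) .nil) (.nd (.nd .nil (.nd (.lf (.wit [2, 1] [0, 0])) (.lf (.wit [2, 1] [0, 0])))) .nil))) .nil) (.nd .nil (.nd (.nd (.nd .nil (.nd (.nd (.lf (.wit [2, 1] [0, 0])) (.lf (.wit [2, 1] [0, 0]))) .nil)) (.nd .nil (.nd (.nd (.lf (.wit [2, 1] [0, 0])) (.lf (.wit [2, 1] [0, 0]))) .nil))) (.nd (.nd .nil (.nd (.nd (.lf (.wit [2, 1] [0, 0])) (.lf (.wit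 [2, 1] [0, 0]))) .nil)) (.nd .nil (.nd (.nd (.lf (.wit [2, 1] [0, 0])) (.lf (.wit [2, 1] [0, 0]))) .nil)))))) .nil)) (.nd (.nd .nil (.nd (.nd .nil (.nd (.nd (.nd .nil (.nd (.nd (.lf (.wit [2, 1] [0, 0])) (.lf (.wit [2, 1] [0, 0]))) .nil)) (.nd .nil (.nd (.nd (.lf (.wit [2, 1] [0, 0])) (.lf (.wit [4, 1] [0, 0]))) .nil))) (.nd (.nd .nil (.nd (.nd (.lf (.wit [2, 1] [0, 0])) (.lf (.wit [2, 1] [0, 0]))) .nil)) (.nd .nil (.nd (.nd (.lf (.wit [2, 1] [0, 0])) (.lf (.wit [2, 1] [0, 3]))) .nil))))) (.nd (.nd (.nd (.nd (.nd .nil (.nd (.lf (.wit [2, 1] [0, 0])) (.lf (.wit [2, 1] [0, 0])))) .nil) (.nd (.nd .nil (.nd (.lf (.wit [2, 1] [0, 0])) (.lf (.wit [2, 1] [0, 0])))) .nil)) (.nd (.nd (.nd .nil (.nd (.lf (.wit [2, 1] [0, 0])) (.lf (.wit [2, 1] [0, 0])))) .nil) (.nd (.nd .nil (.nd (.lf (.wit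 [2, 1] [0, 0])) (.lf (.wit [2, 1] [0, 0])))) .nil))) .nil))) (.nd .nil (.nd (.nd .nil (.nd (.nd (.nd .nil (.nd .nil (.nd (.lf (.wit [2, 1] [0, 0])) (.lf (.wit [2, 1] [0, 0]))))) (.nd .nil (.nd .nil (.nd (.lf (.wit [2, 1] [0, 0])) (.lf (.wit [2, 1] [0, 0])))))) (.nd (.nd .nil (.nd .nil (.nd (.lf (.wit [2, 1] [0, 0])) (.lf (.wit [2, 1] [0, 0]))))) (.nd .nil (.nd .nil (.nd (.lf (.wit [2, 1] [0, 0])) (.lf (.wit [2, 1] [0, 0])))))))) (.nd (.nd (.nd (.nd (.nd (.nd (.lf (.wit [2, 1] [0, 0])) (.lf (.wit [2, 1] [0, 0]))) .nil) .nil) (.nd (.nd (.nd (.lf (.wit [2, 1] [0, 0])) (.lf (.wit [2, 1] [0, 0]))) .nil) .nil)) (.nd (.nd (.nd (.nd (.lf (.wit [2, 1] [0, 0])) (.lf (.wit [2, 1] [0, 0]))) .nil) .nil) (.nd (.nd (.nd (.lf (.wit [4, 1] [0, 0])) (.lf (.wit [2, 1] [0, 0]))) .nil) .nil))) .nil)))))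

theorem k13 : chkCand DD ap iv bsL 0 3510 [2, 3] cd13 13 = true := by decide +kernel

/-- The candidates of a coset. -/
def cd14 : CT :=
  (.nd (.nd (.nd (.nd (.nd (.nd (.nd (.nd (.nd (.nd (.lf (.wit [2, 1] [0, 0])) (.lf (.wit [4, 3] [0, 0]))) (.nd (.lf (.wit [2, 1] [0, 0])) (.lf (.wit [2, 1] [0, 0])))) .nil) (.nd (.nd (.nd (.lf (.wit [2, 1] [0, 0])) (.lf (.wit [2, 1] [0, 0]))) (.nd (.lf (.wit [2, 1] [0, 0])) (.lf (.wit [2, 1] [0, 0])))) .nil)) .nil) .nil) .nil) (.nd (.nd (.nd (.nd (.nd .nil (.nd (.nd (.lf (.wit [2, 1] [0, 0])) (.lf (.wit [2, 1] [0, 0]))) (.nd (.lf (.wit [2, 1] [0, 0])) (.lf (.wit [2, 1] [0, 0]))))) (.nd .nil (.nd (.nd (.lf (.wit [2, 1] [0, 0])) (.lf (.wit [2, 1] [0, 0]))) (.nd (.lf (.wit [2, 1] [0, 0])) (.lf (.wit [2, 1] [0, 0])))))) .nil) .nil) .nil)) (.nd (.nd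 (.nd (.nd (.nd (.nd (.nd (.nd (.lf (.wit [2, 1] [0, 0])) (.lf (.wit [2, 1] [0, 3]))) (.nd (.lf (.wit [2, 1] [0, 0])) (.lf (.wit [2, 1] [0, 0])))) .nil) (.nd (.nd (.nd (.lf (.wit [2, 1] [0, 0])) (.lf (.wit [2, 1] [0, 0]))) (.nd (.lf (.wit [2, 1] [0, 0])) (.lf (.wit [2, 1] [0, 0])))) .nil)) .nil) .nil) .nil) (.nd (.nd (.nd (.nd (.nd .nil (.nd (.nd (.lf (.wit [2, 1] [0, 0])) (.lf (.wit [2, 1] [0, 0]))) (.nd (.lf (.wit [2, 1] [0, 0])) (.lf (.wit [2, 1] [0, 0]))))) (.nd .nil (.nd (.nd (.lf (.wit [2, 1] [0, 0])) (.lf (.wit [2, 1] [0, 0]))) (.nd (.lf (.wit [2, 1] [0, 0])) (.lf (.wit [2, 1] [0, 0])))))) .nil) .nil) .nil))) (.nd (.nd (.nd .nil (.nd (.nd .nil (.nd (.nd .nil (.nd (.nd (.lf (.wit [2, 1] [0, 0])) (.lf (.wit [2, 1] [0, 0]))) (.nd (.lf (.wit [2, 1] [0, 0])) (.lf (.wit [2, 1] [0,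 0]))))) (.nd .nil (.nd (.nd (.lf (.wit [4, 1] [0, 0])) (.lf (.wit [2, 1] [0, 0]))) (.nd (.lf (.wit [2, 1] [0, 0])) (.lf (.wit [2, 1] [0, 0]))))))) .nil)) (.nd .nil (.nd (.nd .nil (.nd (.nd (.nd (.nd (.lf (.wit [2, 1] [0, 0])) (.lf (.wit [2, 1] [0, 0]))) (.nd (.lf (.wit [2, 1] [0, 0])) (.lf (.wit [2, 1] [0, 0])))) .nil) (.nd (.nd (.nd (.lf (.wit [2, 1] [0, 0])) (.lf (.wit [2, 1] [0, 0]))) (.nd (.lf (.wit [2, 1] [0, 0])) (.lf (.wit [2, 1] [0, 0])))) .nil))) .nil))) (.nd (.nd .nil (.nd (.nd .nil (.nd (.nd .nil (.nd (.nd (.lf (.wit [2, 1] [0, 0])) (.lf (.wit [2, 1] [0, 0]))) (.nd (.lf (.wit [2, 1] [0, 0])) (.lf (.wit [2, 1] [0, 0]))))) (.nd .nil (.nd (.nd (.lf (.wit [3, 1] [0, 0])) (.lf (.wit [2, 1] [0, 0]))) (.nd (.lf (.wit [2, 1] [0, 0])) (.lf (.wit [2, 1] [0, 0]))))))) .nil)) (.nd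 .nil (.nd (.nd .nil (.nd (.nd (.nd (.nd (.lf (.wit [2, 1] [0, 0])) (.lf (.wit [2, 1] [0, 0]))) (.nd (.lf (.wit [2, 1] [0, 0])) (.lf (.wit [2, 1] [0, 0])))) .nil) (.nd (.nd (.nd (.lf (.wit [4, 3] [0, 0])) (.lf (.wit [2, 1] [0, 0]))) (.nd (.lf (.wit [2, 1] [0, 0])) (.lf (.wit [2, 1] [0, 0])))) .nil))) .nil)))))

theorem k14 : chkCand DD ap iv bsL 0 3510 [2, 3] cd14 14 = true := by decide +kernel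

/-- The candidates of a coset. -/
def cd16 : CT :=
  (.nd (.nd (.nd (.nd (.nd (.nd (.nd (.nd (.nd (.nd (.lf (.wit [8, 6] [2, 2])) (.lf (.wit [4, 3] [2, 2]))) .nil) .nil) (.nd (.nd (.nd (.lf (.wit [2, 1] [0, 0])) (.lf (.wit [2, 1] [0, 0]))) .nil) .nil)) .nil) (.nd (.nd (.nd (.nd (.nd (.lf (.wit [2, 1] [0, 0])) (.lf (.wit [2, 1] [0, 3]))) .nil) .nil) (.nd (.nd (.nd (.lf (.wit [2, 1] [0, 1])) (.lf (.wit [2, 1] [0, 0]))) .nil) .nil)) .nil)) .nil) (.nd (.nd (.nd (.nd (.nd (.nd .nil (.nd (.lf (.wit [7, 6] [2, 2])) (.lf (.wit [7, 6] [2, 2])))) .nil) (.nd (.nd .nil (.nd (.lf (.wit [2, 1] [0, 0])) (.lf (.wit [2, 1] [0, 0])))) .nil)) .nil) (.nd (.nd (.nd (.nd .nil (.nd (.lf (.wit [2, 1] [0, 0])) (.lf (.wit [2, 1] [0, 0])))) .nil) (.nd (.nd .nil (.nd (.lf (.wit [2, 1] [0, 0])) (.lf (.wit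 [2, 1] [0, 0])))) .nil)) .nil)) .nil)) (.nd (.nd .nil (.nd (.nd .nil (.nd (.nd (.nd .nil (.nd (.lf (.wit [2, 1] [0, 0])) (.lf (.wit [2, 1] [0, 0])))) .nil) (.nd (.nd .nil (.nd (.lf (.wit [3, 6] [2, 2])) (.lf (.wit [4, 3] [2, 2])))) .nil))) (.nd .nil (.nd (.nd (.nd .nil (.nd (.lf (.wit [2, 1] [0, 0])) (.lf (.wit [2, 1] [0, 0])))) .nil) (.nd (.nd .nil (.nd (.lf (.wit [2, 1] [0, 0])) (.lf (.wit [2, 1] [0, 0])))) .nil))))) (.nd .nil (.nd (.nd .nil (.nd (.nd (.nd (.nd (.lf (.wit [2, 1] [0, 0])) (.lf (.wit [2, 1] [0, 0]))) .nil) .nil) (.nd (.nd (.nd (.lf (.wit [4, 3] [2, 2])) (.lf (.wit [4, 3] [2, 2]))) .nil) .nil))) (.nd .nil (.nd (.nd (.nd (.nd (.lf (.wit [2, 1] [0, 1])) (.lf (.wit [2, 1] [0, 0]))) .nil) .nil) (.nd (.nd (.nd (.lf (.wit [2, 1] [0, 0])) (.lf (.wit [2, 1] [0, 3]))) .nil)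 .nil))))))) (.nd (.nd (.nd (.nd (.nd (.nd (.nd (.nd (.nd (.lf (.wit [2, 1] [0, 0])) (.lf (.wit [2, 1] [0, 3]))) .nil) .nil) (.nd (.nd (.nd (.lf (.wit [2, 1] [0, 1])) (.lf (.wit [2, 1] [0, 0]))) .nil) .nil)) .nil) (.nd (.nd (.nd (.nd (.nd (.lf (.wit [2, 1] [1, 0])) (.lf (.wit [2, 1] [3, 0]))) .nil) .nil) (.nd (.nd (.nd (.lf (.wit [2, 1] [0, 0])) (.lf (.wit [2, 1] [0, 0]))) .nil) .nil)) .nil)) .nil) (.nd (.nd (.nd (.nd (.nd (.nd .nil (.nd (.lf (.wit [2, 1] [0, 3])) (.lf (.wit [2, 1] [0, 1])))) .nil) (.nd (.nd .nil (.nd (.lf (.wit [2, 1] [0, 0])) (.lf (.wit [2, 1] [0, 0])))) .nil)) .nil) (.nd (.nd (.nd (.nd .nil (.nd (.lf (.wit [2, 1] [2, 0])) (.lf (.wit [2, 1] [1, 0])))) .nil) (.nd (.nd .nil (.nd (.lf (.wit [2, 1] [0, 0])) (.lf (.wit [2, 1] [0, 0])))) .nil)) .nil)) .nil)) (.nd (.nd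 .nil (.nd (.nd .nil (.nd (.nd (.nd .nil (.nd (.lf (.wit [2, 1] [0, 0])) (.lf (.wit [2, 1] [0, 0])))) .nil) (.nd (.nd .nil (.nd (.lf (.wit [2, 1] [0, 3])) (.lf (.wit [2, 1] [0, 1])))) .nil))) (.nd .nil (.nd (.nd (.nd .nil (.nd (.lf (.wit [2, 1] [0, 0])) (.lf (.wit [2, 1] [0, 0])))) .nil) (.nd (.nd .nil (.nd (.lf (.wit [2, 1] [2, 0])) (.lf (.wit [2, 1] [1, 0])))) .nil))))) (.nd .nil (.nd (.nd .nil (.nd (.nd (.nd (.nd (.lf (.wit [2, 1] [0, 1])) (.lf (.wit [2, 1] [0, 0]))) .nil) .nil) (.nd (.nd (.nd (.lf (.wit [2, 1] [0, 0])) (.lf (.wit [2, 1] [0, 3]))) .nil) .nil))) (.nd .nil (.nd (.nd (.nd (.nd (.lf (.wit [2, 1] [0, 0])) (.lf (.wit [2, 1] [0, 0]))) .nil) .nil) (.nd (.nd (.nd (.lf (.wit [2, 1] [1, 0])) (.lf (.wit [3, 1] [0, 0]))) .nil) .nil))))))))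

theorem k16 : chkCand DD ap iv bsL 0 3510 [2, 3] cd16 16 = true := by decide +kernel

/-- The candidates of a coset. -/
def cd17 : CT :=
  (.nd (.nd (.nd (.nd (.nd (.nd (.nd (.nd (.nd (.nd (.lf (.wit [8, 6] [2, 2])) (.lf (.wit [4, 3] [2, 2]))) .nil) .nil) (.nd (.nd (.nd (.lf (.wit [2, 1] [0, 0])) (.lf (.wit [2, 1] [0, 0]))) .nil) .nil)) .nil) (.nd (.nd (.nd (.nd (.nd (.lf (.wit [2, 1] [0, 0])) (.lf (.wit [2, 1] [0, 3]))) .nil) .nil) (.nd (.nd (.nd (.lf (.wit [2, 1] [0, 1])) (.lf (.wit [2, 1] [0, 0]))) .nil) .nil)) .nil)) .nil) (.nd .nil (.nd (.nd (.nd (.nd .nil (.nd .nil (.nd (.lf (.wit [2, 1] [0, 0])) (.lf (.wit [2, 1] [0, 0]))))) (.nd .nil (.nd .nil (.nd (.lf (.wit [2, 1] [0, 0])) (.lf (.wit [2, 1] [0, 0])))))) .nil) (.nd (.nd (.nd .nil (.nd .nil (.nd (.lf (.wit [2, 1] [0, 0]))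 (.lf (.wit [2, 1] [0, 0]))))) (.nd .nil (.nd .nil (.nd (.lf (.wit [7, 6] [2, 2])) (.lf (.wit [7, 6] [2, 2])))))) .nil)))) (.nd (.nd (.nd (.nd .nil (.nd (.nd .nil (.nd .nil (.nd (.lf (.wit [2, 1] [0, 0])) (.lf (.wit [2, 1] [0, 0]))))) (.nd .nil (.nd .nil (.nd (.lf (.wit [2, 1] [0, 0])) (.lf (.wit [2, 1] [0, 0]))))))) (.nd .nil (.nd (.nd .nil (.nd .nil (.nd (.lf (.wit [4, 3] [2, 2])) (.lf (.wit [7, 8] [2, 2]))))) (.nd .nil (.nd .nil (.nd (.lf (.wit [2, 1] [0, 0])) (.lf (.wit [2, 1] [0, 0])))))))) .nil) (.nd .nil (.nd (.nd .nil (.nd (.nd (.nd (.nd (.lf (.wit [2, 1] [0, 0])) (.lf (.wit [2, 1] [0, 0]))) .nil) .nil) (.nd (.nd (.nd (.lf (.wit [4, 3] [2, 2])) (.lf (.wit [4, 3] [2, 2]))) .nil) .nil))) (.nd .nil (.nd (.nd (.nd (.nd (.lf (.wit [2, 1] [0, 1])) (.lf (.wit [2, 1] [0, 0]))) .nil)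 .nil) (.nd (.nd (.nd (.lf (.wit [2, 1] [0, 0])) (.lf (.wit [2, 1] [0, 3]))) .nil) .nil))))))) (.nd (.nd (.nd (.nd (.nd (.nd (.nd (.nd (.nd (.lf (.wit [2, 1] [0, 0])) (.lf (.wit [2, 1] [0, 3]))) .nil) .nil) (.nd (.nd (.nd (.lf (.wit [2, 1] [0, 1])) (.lf (.wit [2, 1] [0, 0]))) .nil) .nil)) .nil) (.nd (.nd (.nd (.nd (.nd (.lf (.wit [2, 1] [1, 0])) (.lf (.wit [2, 1] [3, 0]))) .nil) .nil) (.nd (.nd (.nd (.lf (.wit [2, 1] [0, 0])) (.lf (.wit [2, 1] [0, 0]))) .nil) .nil)) .nil)) .nil) (.nd .nil (.nd (.nd (.nd (.nd .nil (.nd .nil (.nd (.lf (.wit [2, 1] [0, 0])) (.lf (.wit [2, 1] [0, 0]))))) (.nd .nil (.nd .nil (.nd (.lf (.wit [2, 1] [1, 0])) (.lf (.wit [2, 1] [2, 0])))))) .nil) (.nd (.nd (.nd .nil (.nd .nil (.nd (.lf (.wit [2, 1] [0, 0])) (.lf (.wit [2, 1] [0, 0]))))) (.nd .nil (.nd .nil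 (.nd (.lf (.wit [2, 1] [0, 1])) (.lf (.wit [2, 1] [0, 3])))))) .nil)))) (.nd (.nd (.nd (.nd .nil (.nd (.nd .nil (.nd .nil (.nd (.lf (.wit [2, 1] [1, 0])) (.lf (.wit [2, 1] [2, 0]))))) (.nd .nil (.nd .nil (.nd (.lf (.wit [2, 1] [0, 0])) (.lf (.wit [2, 1] [0, 0]))))))) (.nd .nil (.nd (.nd .nil (.nd .nil (.nd (.lf (.wit [2, 1] [0, 1])) (.lf (.wit [2, 1] [0, 3]))))) (.nd .nil (.nd .nil (.nd (.lf (.wit [2, 1] [0, 0])) (.lf (.wit [2, 1] [0, 0])))))))) .nil) (.nd .nil (.nd (.nd .nil (.nd (.nd (.nd (.nd (.lf (.wit [2, 1] [0, 1])) (.lf (.wit [2, 1] [0, 0]))) .nil) .nil) (.nd (.nd (.nd (.lf (.wit [2, 1] [0, 0])) (.lf (.wit [2, 1] [0, 3]))) .nil) .nil))) (.nd .nil (.nd (.nd (.nd (.nd (.lf (.wit [2, 1] [0, 0])) (.lf (.wit [2, 1] [0, 0]))) .nil) .nil) (.nd (.nd (.nd (.lf (.wit [2, 1] [1, 0]))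 (.lf (.wit [4, 1] [0, 0]))) .nil) .nil))))))))

theorem k17 : chkCand DD ap iv bsL 0 3510 [2, 3] cd17 17 = true := by decide +kernel

/-- The candidates of a coset. -/
def cd18 : CT :=
  (.nd (.nd (.nd (.nd (.nd (.nd (.nd (.nd (.nd (.nd (.lf (.wit [2, 1] [0, 0])) (.lf (.wit [2, 1] [0, 0]))) .nil) .nil) (.nd (.nd (.nd (.lf (.wit [2, 1] [0, 0])) (.lf (.wit [2, 1] [0, 1]))) .nil) .nil)) (.nd (.nd .nil (.nd (.nd (.lf (.wit [2, 1] [0, 0])) (.lf (.wit [2, 1] [0, 0]))) .nil)) (.nd .nil (.nd (.nd (.lf (.wit [2, 1] [0, 0])) (.lf (.wit [2, 1] [0, 0]))) .nil)))) (.nd (.nd (.nd (.nd (.nd (.lf (.wit [3, 1] [0, 0])) (.lf (.wit [2, 1] [0, 0]))) .nil) .nil) (.nd (.nd (.nd (.lf (.wit [2, 1] [0, 0])) (.lf (.wit [2, 1] [0, 0]))) .nil) .nil)) (.nd (.nd .nil (.nd (.nd (.lf (.wit [2, 1] [0, 0])) (.lf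 (.wit [2, 1] [0, 0]))) .nil)) (.nd .nil (.nd (.nd (.lf (.wit [2, 1] [1, 0])) (.lf (.wit [2, 1] [2, 0]))) .nil))))) .nil) .nil) (.nd .nil (.nd .nil (.nd (.nd (.nd (.nd .nil (.nd (.nd (.lf (.wit [2, 1] [0, 0])) (.lf (.wit [2, 1] [0, 0]))) .nil)) (.nd .nil (.nd (.nd (.lf (.wit [2, 1] [0, 1])) (.lf (.wit [2, 1] [0, 0]))) .nil))) (.nd (.nd (.nd (.nd (.lf (.wit [2, 1] [0, 0])) (.lf (.wit [2, 1] [0, 1]))) .nil) .nil) (.nd (.nd (.nd (.lf (.wit [2, 1] [0, 0])) (.lf (.wit [2, 1] [0, 0]))) .nil) .nil))) (.nd (.nd (.nd .nil (.nd (.nd (.lf (.wit [2, 1] [1, 0])) (.lf (.wit [2, 1] [2, 0]))) .nil)) (.nd .nil (.nd (.nd (.lf (.wit [2, 1] [0, 0])) (.lf (.wit [2, 1] [0, 0]))) .nil))) (.nd (.nd (.nd (.nd (.lf (.wit [4, 1] [0, 0])) (.lf (.wit [2, 1] [0, 0]))) .nil) .nil) (.nd (.nd (.nd (.lf (.wit [3,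 1] [0, 0])) (.lf (.wit [2, 1] [0, 0]))) .nil) .nil))))))) (.nd (.nd (.nd (.nd (.nd (.nd (.nd (.nd (.nd (.lf (.wit [4, 1] [0, 0])) (.lf (.wit [2, 1] [0, 0]))) .nil) .nil) (.nd (.nd (.nd (.lf (.wit [2, 1] [0, 0])) (.lf (.wit [2, 1] [0, 0]))) .nil) .nil)) (.nd (.nd .nil (.nd (.nd (.lf (.wit [2, 1] [0, 0])) (.lf (.wit [2, 1] [0, 0]))) .nil)) (.nd .nil (.nd (.nd (.lf (.wit [2, 1] [0, 0])) (.lf (.wit [2, 1] [0, 0]))) .nil)))) (.nd (.nd (.nd (.nd (.nd (.lf (.wit [2, 1] [0, 0])) (.lf (.wit [2, 1] [0, 0]))) .nil) .nil) (.nd (.nd (.nd (.lf (.wit [2, 1] [0, 0])) (.lf (.wit [2, 1] [0, 1]))) .nil) .nil)) (.nd (.nd .nil (.nd (.nd (.lf (.wit [2, 1] [2, 0])) (.lf (.wit [2, 1] [1, 0]))) .nil)) (.nd .nil (.nd (.nd (.lf (.wit [2, 1] [0, 0])) (.lf (.wit [2, 1] [0, 0]))) .nil))))) .nil) .nil) (.nd .nil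 (.nd .nil (.nd (.nd (.nd (.nd .nil (.nd (.nd (.lf (.wit [2, 1] [0, 0])) (.lf (.wit [2, 1] [0, 1]))) .nil)) (.nd .nil (.nd (.nd (.lf (.wit [2, 1] [0, 0])) (.lf (.wit [2, 1] [0, 0]))) .nil))) (.nd (.nd (.nd (.nd (.lf (.wit [2, 1] [0, 0])) (.lf (.wit [2, 1] [0, 0]))) .nil) .nil) (.nd (.nd (.nd (.lf (.wit [4, 1] [0, 0])) (.lf (.wit [2, 1] [0, 0]))) .nil) .nil))) (.nd (.nd (.nd .nil (.nd (.nd (.lf (.wit [2, 1] [0, 0])) (.lf (.wit [2, 1] [0, 0]))) .nil)) (.nd .nil (.nd (.nd (.lf (.wit [2, 1] [2, 0])) (.lf (.wit [2, 1] [1, 0]))) .nil))) (.nd (.nd (.nd (.nd (.lf (.wit [2, 1] [0, 0])) (.lf (.wit [2, 1] [0, 1]))) .nil) .nil) (.nd (.nd (.nd (.lf (.wit [2, 1] [0, 0])) (.lf (.wit [3, 1] [0, 0]))) .nil) .nil))))))))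

theorem k18 : chkCand DD ap iv bsL 0 3510 [2, 3] cd18 18 = true := by decide +kernel

/-- The candidates of a coset. -/
def cd19 : CT :=
  (.nd (.nd (.nd (.nd (.nd (.nd (.nd (.nd (.nd (.nd (.lf (.wit [2, 1] [0, 0])) (.lf (.wit [2, 1] [0, 0]))) .nil) .nil) (.nd (.nd (.nd (.lf (.wit [2, 1] [0, 0])) (.lf (.wit [2, 1] [0, 1]))) .nil) .nil)) .nil) (.nd (.nd (.nd (.nd (.nd (.lf (.wit [4, 1] [0, 0])) (.lf (.wit [2, 1] [0, 0]))) .nil) .nil) (.nd (.nd (.nd (.lf (.wit [2, 1] [0, 0])) (.lf (.wit [2, 1] [0, 0]))) .nil) .nil)) .nil)) (.nd (.nd .nil (.nd (.nd (.nd (.nd (.lf (.wit [2, 1] [2, 0])) (.lf (.wit [2, 1] [1, 0]))) .nil) .nil) (.nd (.nd (.nd (.lf (.wit [2, 1] [0, 0])) (.lf (.wit [2, 1] [0, 0]))) .nil) .nil))) (.nd .nil (.nd (.nd (.nd (.nd (.lf (.wit [2, 1] [0, 0])) (.lf (.wit [2, 1]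 [0, 0]))) .nil) .nil) (.nd (.nd (.nd (.lf (.wit [2, 1] [0, 0])) (.lf (.wit [2, 1] [0, 1]))) .nil) .nil))))) .nil) (.nd .nil (.nd (.nd (.nd (.nd (.nd (.nd (.nd (.lf (.wit [2, 1] [0, 0])) (.lf (.wit [2, 1] [0, 3]))) .nil) .nil) (.nd (.nd (.nd (.lf (.wit [2, 1] [3, 0])) (.lf (.wit [2, 1] [1, 0]))) .nil) .nil)) .nil) (.nd (.nd (.nd (.nd (.nd (.lf (.wit [2, 1] [0, 0])) (.lf (.wit [2, 1] [0, 0]))) .nil) .nil) (.nd (.nd (.nd (.lf (.wit [2, 1] [0, 0])) (.lf (.wit [2, 1] [0, 0]))) .nil) .nil)) .nil)) (.nd (.nd .nil (.nd (.nd (.nd (.nd (.lf (.wit [2, 1] [0, 0])) (.lf (.wit [2, 1] [0, 1]))) .nil) .nil) (.nd (.nd (.nd (.lf (.wit [2, 1] [0, 0])) (.lf (.wit [2, 1] [0, 0]))) .nil) .nil))) (.nd .nil (.nd (.nd (.nd (.nd (.lf (.wit [4, 3] [1, 1])) (.lf (.wit [2, 1] [0, 0]))) .nil) .nil) (.nd (.nd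 (.nd (.lf (.wit [4, 1] [0, 0])) (.lf (.wit [2, 1] [0, 0]))) .nil) .nil))))))) (.nd (.nd (.nd (.nd (.nd (.nd (.nd (.nd (.nd (.lf (.wit [3, 1] [2, 0])) (.lf (.wit [2, 1] [0, 0]))) .nil) .nil) (.nd (.nd (.nd (.lf (.wit [2, 1] [0, 0])) (.lf (.wit [2, 1] [0, 0]))) .nil) .nil)) .nil) (.nd (.nd (.nd (.nd (.nd (.lf (.wit [2, 1] [0, 0])) (.lf (.wit [2, 1] [0, 0]))) .nil) .nil) (.nd (.nd (.nd (.lf (.wit [2, 1] [0, 0])) (.lf (.wit [2, 1] [0, 1]))) .nil) .nil)) .nil)) (.nd (.nd .nil (.nd (.nd (.nd (.nd (.lf (.wit [2, 1] [0, 0])) (.lf (.wit [2, 1] [0, 0]))) .nil) .nil) (.nd (.nd (.nd (.lf (.wit [2, 1] [1, 0])) (.lf (.wit [2, 1] [2, 0]))) .nil) .nil))) (.nd .nil (.nd (.nd (.nd (.nd (.lf (.wit [2, 1] [0, 1])) (.lf (.wit [2, 1] [0, 0]))) .nil) .nil) (.nd (.nd (.nd (.lf (.wit [2, 1] [0, 0])) (.lf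 (.wit [2, 1] [0, 0]))) .nil) .nil))))) .nil) (.nd .nil (.nd (.nd (.nd (.nd (.nd (.nd (.nd (.lf (.wit [2, 1] [1, 0])) (.lf (.wit [2, 1] [3, 0]))) .nil) .nil) (.nd (.nd (.nd (.lf (.wit [2, 1] [0, 3])) (.lf (.wit [2, 1] [0, 0]))) .nil) .nil)) .nil) (.nd (.nd (.nd (.nd (.nd (.lf (.wit [2, 1] [0, 0])) (.lf (.wit [2, 1] [0, 0]))) .nil) .nil) (.nd (.nd (.nd (.lf (.wit [2, 1] [0, 0])) (.lf (.wit [2, 1] [0, 0]))) .nil) .nil)) .nil)) (.nd (.nd .nil (.nd (.nd (.nd (.nd (.lf (.wit [2, 1] [0, 0])) (.lf (.wit [2, 1] [0, 0]))) .nil) .nil) (.nd (.nd (.nd (.lf (.wit [3, 1] [2, 0])) (.lf (.wit [2, 1] [0, 0]))) .nil) .nil))) (.nd .nil (.nd (.nd (.nd (.nd (.lf (.wit [2, 1] [0, 0])) (.lf (.wit [2, 1] [0, 1]))) .nil) .nil) (.nd (.nd (.nd (.lf (.wit [2, 1] [0, 0])) (.lf (.wit [4, 1] [0, 0]))) .nil) .nil))))))))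

theorem k19 : chkCand DD ap iv bsL 0 3510 [2, 3] cd19 19 = true := by decide +kernel

/-- The candidates of a coset. -/
def cd24 : CT :=
  (.nd (.nd (.nd (.nd (.nd (.nd (.nd (.nd (.nd (.nd (.lf (.wit [2, 1] [0, 0])) (.lf (.wit [2, 1] [0, 3]))) .nil) .nil) (.nd (.nd (.nd (.lf (.wit [2, 1] [0, 1])) (.lf (.wit [2, 1] [0, 0]))) .nil) .nil)) .nil) (.nd (.nd (.nd (.nd (.nd (.lf (.wit [2, 1] [1, 0])) (.lf (.wit [4, 3] [1, 1]))) .nil) .nil) (.nd (.nd (.nd (.lf (.wit [2, 1] [0, 0])) (.lf (.wit [2, 1] [0, 0]))) .nil) .nil)) .nil)) .nil) (.nd (.nd (.nd .nil (.nd (.nd (.nd (.nd (.lf (.wit [2, 1] [0, 0])) (.lf (.wit [2, 1] [0, 0]))) .nil) .nil) (.nd (.nd (.nd (.lf (.wit [2, 1] [0, 0])) (.lf (.wit [2, 1] [0, 1]))) .nil) .nil))) (.nd .nil (.nd (.nd (.nd (.nd (.lf (.wit [2, 1] [0, 1])) (.lf (.wit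 [2, 1] [0, 0]))) .nil) .nil) (.nd (.nd (.nd (.lf (.wit [2, 1] [0, 0])) (.lf (.wit [2, 1] [0, 0]))) .nil) .nil)))) .nil)) (.nd (.nd .nil (.nd (.nd (.nd (.nd (.nd (.nd (.lf (.wit [2, 1] [0, 0])) (.lf (.wit [2, 1] [0, 0]))) .nil) .nil) (.nd (.nd (.nd (.lf (.wit [2, 1] [0, 0])) (.lf (.wit [2, 1] [0, 0]))) .nil) .nil)) .nil) (.nd (.nd (.nd (.nd (.nd (.lf (.wit [2, 1] [0, 0])) (.lf (.wit [2, 1] [0, 0]))) .nil) .nil) (.nd (.nd (.nd (.lf (.wit [2, 1] [0, 0])) (.lf (.wit [2, 1] [0, 0]))) .nil) .nil)) .nil))) (.nd .nil (.nd (.nd .nil (.nd (.nd (.nd (.nd (.lf (.wit [2, 1] [0, 1])) (.lf (.wit [2, 1] [0, 0]))) .nil) .nil) (.nd (.nd (.nd (.lf (.wit [2, 1] [0, 0])) (.lf (.wit [2, 1] [0, 3]))) .nil) .nil))) (.nd .nil (.nd (.nd (.nd (.nd (.lf (.wit [2, 1] [0, 0])) (.lf (.wit [4, 1] [0, 0]))) .nil)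 .nil) (.nd (.nd (.nd (.lf (.wit [2, 1] [1, 0])) (.lf (.wit [2, 1] [3, 0]))) .nil) .nil))))))) (.nd (.nd (.nd (.nd (.nd (.nd (.nd (.nd (.nd (.lf (.wit [2, 1] [1, 0])) (.lf (.wit [2, 1] [3, 0]))) .nil) .nil) (.nd (.nd (.nd (.lf (.wit [2, 1] [0, 0])) (.lf (.wit [3, 1] [0, 0]))) .nil) .nil)) .nil) (.nd (.nd (.nd (.nd (.nd (.lf (.wit [2, 1] [0, 0])) (.lf (.wit [2, 1] [0, 3]))) .nil) .nil) (.nd (.nd (.nd (.lf (.wit [2, 1] [0, 1])) (.lf (.wit [2, 1] [0, 0]))) .nil) .nil)) .nil)) .nil) (.nd (.nd (.nd .nil (.nd (.nd (.nd (.nd (.lf (.wit [2, 1] [0, 0])) (.lf (.wit [2, 1] [0, 0]))) .nil) .nil) (.nd (.nd (.nd (.lf (.wit [2, 1] [0, 0])) (.lf (.wit [2, 1] [0, 0]))) .nil) .nil))) (.nd .nil (.nd (.nd (.nd (.nd (.lf (.wit [2, 1] [0, 0])) (.lf (.wit [2, 1] [0, 0]))) .nil) .nil) (.nd (.nd (.nd (.lf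 (.wit [2, 1] [0, 0])) (.lf (.wit [2, 1] [0, 0]))) .nil) .nil)))) .nil)) (.nd (.nd .nil (.nd (.nd (.nd (.nd (.nd (.nd (.lf (.wit [2, 1] [0, 0])) (.lf (.wit [2, 1] [0, 0]))) .nil) .nil) (.nd (.nd (.nd (.lf (.wit [2, 1] [0, 1])) (.lf (.wit [2, 1] [0, 0]))) .nil) .nil)) .nil) (.nd (.nd (.nd (.nd (.nd (.lf (.wit [2, 1] [0, 0])) (.lf (.wit [2, 1] [0, 1]))) .nil) .nil) (.nd (.nd (.nd (.lf (.wit [2, 1] [0, 0])) (.lf (.wit [2, 1] [0, 0]))) .nil) .nil)) .nil))) (.nd .nil (.nd (.nd .nil (.nd (.nd (.nd (.nd (.lf (.wit [2, 1] [0, 0])) (.lf (.wit [2, 1] [0, 0]))) .nil) .nil) (.nd (.nd (.nd (.lf (.wit [2, 1] [1, 0])) (.lf (.wit [2, 1] [3, 0]))) .nil) .nil))) (.nd .nil (.nd (.nd (.nd (.nd (.lf (.wit [2, 1] [0, 1])) (.lf (.wit [2, 1] [0, 0]))) .nil) .nil) (.nd (.nd (.nd (.lf (.wit [2, 1] [0, 0]))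 (.lf (.wit [2, 1] [0, 3]))) .nil) .nil))))))))

theorem k24 : chkCand DD ap iv bsL 0 3510 [2, 3] cd24 24 = true := by decide +kernel

/-- The candidates of a coset. -/
def cd25 : CT :=
  (.nd (.nd (.nd (.nd (.nd (.nd (.nd (.nd (.nd (.nd (.lf (.wit [2, 1] [0, 0])) (.lf (.wit [2, 1] [0, 3]))) .nil) .nil) (.nd (.nd (.nd (.lf (.wit [2, 1] [0, 1])) (.lf (.wit [2, 1] [0, 0]))) .nil) .nil)) .nil) (.nd (.nd (.nd (.nd (.nd (.lf (.wit [2, 1] [1, 0])) (.lf (.wit [4, 1] [0, 0]))) .nil) .nil) (.nd (.nd (.nd (.lf (.wit [2, 1] [0, 0])) (.lf (.wit [2, 1] [0, 0]))) .nil) .nil)) .nil)) .nil) (.nd .nil (.nd (.nd .nil (.nd (.nd .nil (.nd (.nd (.lf (.wit [2, 1] [0, 0])) (.lf (.wit [2, 1] [0, 0]))) .nil)) (.nd .nil (.nd (.nd (.lf (.wit [2, 1] [0, 0])) (.lf (.wit [2, 1] [0, 1]))) .nil)))) (.nd .nil (.nd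 (.nd .nil (.nd (.nd (.lf (.wit [2, 1] [0, 0])) (.lf (.wit [2, 1] [0, 0]))) .nil)) (.nd .nil (.nd (.nd (.lf (.wit [2, 1] [0, 0])) (.lf (.wit [2, 1] [0, 0]))) .nil))))))) (.nd (.nd (.nd (.nd (.nd (.nd .nil (.nd (.nd (.lf (.wit [2, 1] [0, 0])) (.lf (.wit [2, 1] [0, 0]))) .nil)) (.nd .nil (.nd (.nd (.lf (.wit [2, 1] [0, 0])) (.lf (.wit [2, 1] [0, 0]))) .nil))) .nil) (.nd (.nd (.nd .nil (.nd (.nd (.lf (.wit [2, 1] [0, 0])) (.lf (.wit [2, 1] [0, 0]))) .nil)) (.nd .nil (.nd (.nd (.lf (.wit [2, 1] [0, 1])) (.lf (.wit [2, 1] [0, 0]))) .nil))) .nil)) .nil) (.nd .nil (.nd (.nd .nil (.nd (.nd (.nd (.nd (.lf (.wit [2, 1] [0, 1])) (.lf (.wit [2, 1] [0, 0]))) .nil) .nil) (.nd (.nd (.nd (.lf (.wit [2, 1] [0, 0])) (.lf (.wit [2, 1] [0, 3]))) .nil) .nil))) (.nd .nil (.nd (.nd (.nd (.nd (.lf (.wit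 [2, 1] [0, 0])) (.lf (.wit [3, 1] [0, 0]))) .nil) .nil) (.nd (.nd (.nd (.lf (.wit [2, 1] [1, 0])) (.lf (.wit [2, 1] [3, 0]))) .nil) .nil))))))) (.nd (.nd (.nd (.nd (.nd (.nd (.nd (.nd (.nd (.lf (.wit [2, 1] [1, 0])) (.lf (.wit [2, 1] [3, 0]))) .nil) .nil) (.nd (.nd (.nd (.lf (.wit [2, 1] [0, 0])) (.lf (.wit [4, 1] [0, 0]))) .nil) .nil)) .nil) (.nd (.nd (.nd (.nd (.nd (.lf (.wit [2, 1] [0, 0])) (.lf (.wit [2, 1] [0, 3]))) .nil) .nil) (.nd (.nd (.nd (.lf (.wit [2, 1] [0, 1])) (.lf (.wit [2, 1] [0, 0]))) .nil) .nil)) .nil)) .nil) (.nd .nil (.nd (.nd .nil (.nd (.nd .nil (.nd (.nd (.lf (.wit [2, 1] [0, 1])) (.lf (.wit [2, 1] [0, 0]))) .nil)) (.nd .nil (.nd (.nd (.lf (.wit [2, 1] [0, 0])) (.lf (.wit [2, 1] [0, 0]))) .nil)))) (.nd .nil (.nd (.nd .nil (.nd (.nd (.lf (.wit [2, 1] [0, 0]))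 (.lf (.wit [2, 1] [0, 0]))) .nil)) (.nd .nil (.nd (.nd (.lf (.wit [2, 1] [0, 0])) (.lf (.wit [2, 1] [0, 0]))) .nil))))))) (.nd (.nd (.nd (.nd (.nd (.nd .nil (.nd (.nd (.lf (.wit [2, 1] [0, 0])) (.lf (.wit [2, 1] [0, 0]))) .nil)) (.nd .nil (.nd (.nd (.lf (.wit [2, 1] [0, 0])) (.lf (.wit [2, 1] [0, 0]))) .nil))) .nil) (.nd (.nd (.nd .nil (.nd (.nd (.lf (.wit [2, 1] [0, 0])) (.lf (.wit [2, 1] [0, 1]))) .nil)) (.nd .nil (.nd (.nd (.lf (.wit [2, 1] [0, 0])) (.lf (.wit [2, 1] [0, 0]))) .nil))) .nil)) .nil) (.nd .nil (.nd (.nd .nil (.nd (.nd (.nd (.nd (.lf (.wit [2, 1] [0, 0])) (.lf (.wit [2, 1] [0, 0]))) .nil) .nil) (.nd (.nd (.nd (.lf (.wit [2, 1] [1, 0])) (.lf (.wit [2, 1] [3, 0]))) .nil) .nil))) (.nd .nil (.nd (.nd (.nd (.nd (.lf (.wit [2, 1] [0, 1])) (.lf (.wit [2, 1] [0, 0]))) .nil)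 .nil) (.nd (.nd (.nd (.lf (.wit [2, 1] [0, 0])) (.lf (.wit [2, 1] [0, 3]))) .nil) .nil))))))))

theorem k25 : chkCand DD ap iv bsL 0 3510 [2, 3] cd25 25 = true := by decide +kernel

/-- The candidates of a coset. -/
def cd26 : CT :=
  (.nd (.nd (.nd (.nd (.nd (.nd (.nd (.nd (.nd (.nd (.lf (.wit [4, 1] [0, 0])) (.lf (.wit [2, 1] [0, 0]))) .nil) (.nd .nil (.nd (.lf (.wit [2, 1] [0, 0])) (.lf (.wit [2, 1] [0, 0]))))) (.nd (.nd (.nd (.lf (.wit [3, 1] [0, 0])) (.lf (.wit [2, 1] [0, 0]))) .nil) (.nd .nil (.nd (.lf (.wit [2, 1] [0, 0])) (.lf (.wit [2, 1] [0, 3])))))) .nil) (.nd (.nd (.nd (.nd (.nd (.lf (.wit [2, 1] [0, 0])) (.lf (.wit [4, 3] [1, 1]))) .nil) (.nd .nil (.nd (.lf (.wit [2, 1] [0, 3])) (.lf (.wit [2, 1] [0, 0]))))) (.nd (.nd (.nd (.lf (.wit [2, 1] [0, 0])) (.lf (.wit [2, 1]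 [0, 1]))) .nil) (.nd .nil (.nd (.lf (.wit [2, 1] [0, 0])) (.lf (.wit [2, 1] [0, 0])))))) .nil)) .nil) .nil) (.nd .nil (.nd .nil (.nd (.nd .nil (.nd (.nd (.nd (.nd (.lf (.wit [2, 1] [0, 0])) (.lf (.wit [2, 1] [0, 0]))) .nil) (.nd .nil (.nd (.lf (.wit [2, 1] [0, 0])) (.lf (.wit [2, 1] [0, 0]))))) (.nd (.nd (.nd (.lf (.wit [4, 1] [0, 0])) (.lf (.wit [2, 1] [0, 0]))) .nil) (.nd .nil (.nd (.lf (.wit [2, 1] [0, 1])) (.lf (.wit [2, 1] [0, 0]))))))) (.nd .nil (.nd (.nd (.nd (.nd (.lf (.wit [2, 1] [0, 0])) (.lf (.wit [2, 1] [0, 1]))) .nil) (.nd .nil (.nd (.lf (.wit [2, 1] [0, 0])) (.lf (.wit [2, 1] [0, 1]))))) (.nd (.nd (.nd (.lf (.wit [2, 1] [0, 0])) (.lf (.wit [2, 1] [0, 0]))) .nil) (.nd .nil (.nd (.lf (.wit [2, 1] [0, 0])) (.lf (.wit [2, 1] [0, 0]))))))))))) (.nd (.nd (.nd (.nd (.nd (.nd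 (.nd (.nd (.nd (.lf (.wit [2, 1] [0, 0])) (.lf (.wit [2, 1] [0, 0]))) .nil) (.nd .nil (.nd (.lf (.wit [2, 1] [0, 0])) (.lf (.wit [2, 1] [0, 0]))))) (.nd (.nd (.nd (.lf (.wit [2, 1] [0, 0])) (.lf (.wit [2, 1] [0, 1]))) .nil) (.nd .nil (.nd (.lf (.wit [2, 1] [1, 0])) (.lf (.wit [2, 1] [3, 0])))))) .nil) (.nd (.nd (.nd (.nd (.nd (.lf (.wit [4, 3] [1, 1])) (.lf (.wit [2, 1] [0, 0]))) .nil) (.nd .nil (.nd (.lf (.wit [2, 1] [3, 0])) (.lf (.wit [2, 1] [1, 0]))))) (.nd (.nd (.nd (.lf (.wit [2, 1] [0, 0])) (.lf (.wit [2, 1] [0, 0]))) .nil) (.nd .nil (.nd (.lf (.wit [2, 1] [0, 0])) (.lf (.wit [2, 1] [0, 0])))))) .nil)) .nil) .nil) (.nd .nil (.nd .nil (.nd (.nd .nil (.nd (.nd (.nd (.nd (.lf (.wit [2, 1] [0, 0])) (.lf (.wit [2, 1] [0, 1]))) .nil) (.nd .nil (.nd (.lf (.wit [2, 1] [1, 0])) (.lf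 (.wit [2, 1] [2, 0]))))) (.nd (.nd (.nd (.lf (.wit [2, 1] [0, 0])) (.lf (.wit [2, 1] [0, 0]))) .nil) (.nd .nil (.nd (.lf (.wit [2, 1] [0, 0])) (.lf (.wit [2, 1] [0, 0]))))))) (.nd .nil (.nd (.nd (.nd (.nd (.lf (.wit [2, 1] [0, 0])) (.lf (.wit [2, 1] [0, 0]))) .nil) (.nd .nil (.nd (.lf (.wit [2, 1] [0, 0])) (.lf (.wit [2, 1] [0, 0]))))) (.nd (.nd (.nd (.lf (.wit [1, 5] [0, 0])) (.lf (.wit [2, 1] [0, 0]))) .nil) (.nd .nil (.nd (.lf (.wit [2, 1] [2, 0])) (.lf (.wit [2, 1] [1, 0]))))))))))))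

theorem k26 : chkCand DD ap iv bsL 0 3510 [2, 3] cd26 26 = true := by decide +kernel

/-- The candidates of a coset. -/
def cd27 : CT :=
  (.nd (.nd (.nd (.nd (.nd (.nd (.nd (.nd (.nd (.nd (.lf (.wit [3, 4, 1] [0, 0])) (.lf (.wit [2, 1] [0, 0]))) .nil) .nil) (.nd (.nd (.nd (.lf (.wit [4, 1] [0, 0])) (.lf (.wit [2, 1] [0, 0]))) .nil) .nil)) .nil) (.nd (.nd (.nd (.nd (.nd (.lf (.wit [2, 1] [0, 0])) (.lf (.wit [3, 1] [0, 0]))) .nil) .nil) (.nd (.nd (.nd (.lf (.wit [2, 1] [0, 0])) (.lf (.wit [2, 1] [0, 1]))) .nil) .nil)) .nil)) (.nd (.nd (.nd (.nd (.nd .nil (.nd (.lf (.wit [2, 1] [0, 1])) (.lf (.wit [2, 1] [0, 0])))) .nil) (.nd (.nd .nil (.nd (.lf (.wit [2, 1] [0, 0])) (.lf (.wit [2, 1] [0, 0])))) .nil)) .nil) (.nd (.nd (.nd (.nd .nil (.nd (.lf (.wit [2, 1] [0, 0])) (.lf (.wit [2,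 1] [0, 0])))) .nil) (.nd (.nd .nil (.nd (.lf (.wit [2, 1] [0, 0])) (.lf (.wit [2, 1] [0, 1])))) .nil)) .nil))) .nil) (.nd .nil (.nd (.nd (.nd .nil (.nd (.nd (.nd .nil (.nd (.lf (.wit [2, 1] [0, 0])) (.lf (.wit [2, 1] [0, 0])))) .nil) (.nd (.nd .nil (.nd (.lf (.wit [2, 1] [0, 0])) (.lf (.wit [2, 1] [0, 0])))) .nil))) (.nd .nil (.nd (.nd (.nd .nil (.nd (.lf (.wit [2, 1] [0, 0])) (.lf (.wit [2, 1] [0, 0])))) .nil) (.nd (.nd .nil (.nd (.lf (.wit [2, 1] [0, 0])) (.lf (.wit [2, 1] [0, 0])))) .nil)))) (.nd (.nd .nil (.nd (.nd (.nd (.nd (.lf (.wit [2, 1] [0, 0])) (.lf (.wit [2, 1] [0, 0]))) .nil) .nil) (.nd (.nd (.nd (.lf (.wit [4, 3] [1, 1])) (.lf (.wit [2, 1] [0, 0]))) .nil) .nil))) (.nd .nil (.nd (.nd (.nd (.nd (.lf (.wit [2, 1] [0, 0])) (.lf (.wit [2, 1] [0, 1]))) .nil) .nil) (.nd (.nd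 (.nd (.lf (.wit [2, 1] [0, 0])) (.lf (.wit [2, 1] [0, 0]))) .nil) .nil))))))) (.nd (.nd (.nd (.nd (.nd (.nd (.nd (.nd (.nd (.lf (.wit [2, 1] [0, 0])) (.lf (.wit [2, 1] [0, 0]))) .nil) .nil) (.nd (.nd (.nd (.lf (.wit [2, 1] [0, 0])) (.lf (.wit [2, 1] [0, 1]))) .nil) .nil)) .nil) (.nd (.nd (.nd (.nd (.nd (.lf (.wit [4, 1] [2, 0])) (.lf (.wit [2, 1] [0, 0]))) .nil) .nil) (.nd (.nd (.nd (.lf (.wit [2, 1] [0, 0])) (.lf (.wit [2, 1] [0, 0]))) .nil) .nil)) .nil)) (.nd (.nd (.nd (.nd (.nd .nil (.nd (.lf (.wit [2, 1] [0, 0])) (.lf (.wit [2, 1] [0, 0])))) .nil) (.nd (.nd .nil (.nd (.lf (.wit [2, 1] [1, 0])) (.lf (.wit [2, 1] [2, 0])))) .nil)) .nil) (.nd (.nd (.nd (.nd .nil (.nd (.lf (.wit [2, 1] [2, 0])) (.lf (.wit [2, 1] [1, 0])))) .nil) (.nd (.nd .nil (.nd (.lf (.wit [2, 1] [0, 0])) (.lf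 (.wit [2, 1] [0, 0])))) .nil)) .nil))) .nil) (.nd .nil (.nd (.nd (.nd .nil (.nd (.nd (.nd .nil (.nd (.lf (.wit [2, 1] [1, 0])) (.lf (.wit [2, 1] [2, 0])))) .nil) (.nd (.nd .nil (.nd (.lf (.wit [2, 1] [0, 0])) (.lf (.wit [2, 1] [0, 0])))) .nil))) (.nd .nil (.nd (.nd (.nd .nil (.nd (.lf (.wit [2, 1] [0, 0])) (.lf (.wit [2, 1] [0, 0])))) .nil) (.nd (.nd .nil (.nd (.lf (.wit [2, 1] [2, 0])) (.lf (.wit [2, 1] [1, 0])))) .nil)))) (.nd (.nd .nil (.nd (.nd (.nd (.nd (.lf (.wit [2, 1] [0, 0])) (.lf (.wit [2, 1] [0, 1]))) .nil) .nil) (.nd (.nd (.nd (.lf (.wit [2, 1] [0, 0])) (.lf (.wit [2, 1] [0, 0]))) .nil) .nil))) (.nd .nil (.nd (.nd (.nd (.nd (.lf (.wit [2, 1] [0, 0])) (.lf (.wit [2, 1] [0, 0]))) .nil) .nil) (.nd (.nd (.nd (.lf (.wit [4, 1] [2, 0])) (.lf (.wit [2, 1] [0, 0]))) .nil) .nil))))))))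

theorem k27 : chkCand DD ap iv bsL 0 3510 [2, 3] cd27 27 = true := by decide +kernel

/-- The candidates of a coset. -/
def cd32 : CT :=
  (.nd (.nd (.nd (.nd (.nd (.nd (.nd (.nd (.nd (.lf (.wit [3, 1] [0, 0])) (.lf (.wit [2, 1] [0, 0]))) (.nd (.lf (.wit [2, 1] [0, 0])) (.lf (.wit [7, 6] [0, 1])))) (.nd (.nd (.lf (.wit [2, 1] [0, 0])) (.lf (.wit [2, 1] [0, 0]))) (.nd (.lf (.wit [2, 1] [0, 0])) (.lf (.wit [2, 1] [0, 0]))))) .nil) (.nd (.nd (.nd (.nd (.lf (.wit [2, 1] [0, 0])) (.lf (.wit [4, 1] [0, 0]))) (.nd (.lf (.wit [2, 1] [0, 0])) (.lf (.wit [2, 1] [0, 0])))) (.nd (.nd (.lf (.wit [2, 1] [0, 0])) (.lf (.wit [2, 1] [0, 0]))) (.nd (.lf (.wit [2, 1] [0, 0])) (.lf (.wit [2, 1] [0, 0]))))) .nil)) .nil) (.nd (.nd (.nd (.nd (.nd (.nd (.lf (.wit [2, 1] [0, 0])) (.lf (.wit [2, 1] [0,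 0]))) (.nd (.lf (.wit [4, 3] [0, 0])) (.lf (.wit [2, 1] [0, 0])))) (.nd (.nd (.lf (.wit [2, 1] [0, 0])) (.lf (.wit [2, 1] [0, 0]))) (.nd (.lf (.wit [2, 1] [0, 0])) (.lf (.wit [2, 1] [0, 0]))))) .nil) (.nd (.nd (.nd (.nd (.lf (.wit [4, 1] [0, 0])) (.lf (.wit [2, 1] [0, 0]))) (.nd (.lf (.wit [2, 1] [0, 0])) (.lf (.wit [2, 1] [0, 0])))) (.nd (.nd (.lf (.wit [2, 1] [0, 0])) (.lf (.wit [2, 1] [0, 0]))) (.nd (.lf (.wit [2, 1] [0, 0])) (.lf (.wit [2, 1] [0, 0]))))) .nil)) .nil)) .nil) (.nd .nil (.nd (.nd .nil (.nd (.nd .nil (.nd (.nd (.nd (.lf (.wit [2, 1] [0, 0])) (.lf (.wit [2, 1] [0, 0]))) (.nd (.lf (.wit [2, 1] [0, 0])) (.lf (.wit [2, 1] [0, 0])))) (.nd (.nd (.lf (.wit [2, 1] [1, 0])) (.lf (.wit [2, 1] [0, 0]))) (.nd (.lf (.wit [2, 1] [0, 0])) (.lf (.wit [2, 1] [0, 0])))))) (.nd .nil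 (.nd (.nd (.nd (.lf (.wit [2, 1] [0, 0])) (.lf (.wit [2, 1] [0, 0]))) (.nd (.lf (.wit [2, 1] [0, 0])) (.lf (.wit [2, 1] [0, 0])))) (.nd (.nd (.lf (.wit [2, 1] [0, 0])) (.lf (.wit [2, 1] [0, 0]))) (.nd (.lf (.wit [2, 1] [0, 0])) (.lf (.wit [2, 1] [0, 0])))))))) (.nd .nil (.nd (.nd .nil (.nd (.nd (.nd (.lf (.wit [2, 1] [0, 0])) (.lf (.wit [2, 1] [0, 0]))) (.nd (.lf (.wit [2, 1] [0, 0])) (.lf (.wit [2, 1] [0, 0])))) (.nd (.nd (.lf (.wit [2, 1] [0, 0])) (.lf (.wit [2, 1] [1, 0]))) (.nd (.lf (.wit [2, 1] [0, 0])) (.lf (.wit [2, 1] [0, 0])))))) (.nd .nil (.nd (.nd (.nd (.lf (.wit [2, 1] [0, 0])) (.lf (.wit [2, 1] [0, 0]))) (.nd (.lf (.wit [2, 1] [0, 0])) (.lf (.wit [4, 3] [0, 0])))) (.nd (.nd (.lf (.wit [2, 1] [0, 0])) (.lf (.wit [2, 1] [0, 0]))) (.nd (.lf (.wit [2, 1] [0, 0])) (.lf (.wit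 [2, 1] [0, 0])))))))))))

theorem k32 : chkCand DD ap iv bsL 0 3510 [2, 3] cd32 32 = true := by decide +kernel

/-- The candidates of a coset. -/
def cd39 : CT :=
  (.nd (.nd (.nd (.nd (.nd (.nd (.nd (.nd (.lf (.wit [1, 5] [0, 0])) (.lf (.wit [2, 1] [0, 3]))) (.nd (.lf (.wit [2, 1] [0, 0])) (.lf (.wit [2, 1] [0, 0])))) .nil) .nil) (.nd (.nd .nil (.nd (.nd (.lf (.wit [2, 1] [0, 0])) (.lf (.wit [2, 1] [0, 0]))) (.nd (.lf (.wit [7, 6] [1, 1])) (.lf (.wit [2, 1] [0, 0]))))) .nil)) (.nd (.nd (.nd (.nd (.nd (.lf (.wit [2, 1] [1, 0])) (.lf (.wit [2, 1] [0, 0]))) (.nd (.lf (.wit [2, 1] [0, 0])) (.lf (.wit [2, 1] [0, 0])))) .nil) .nil) (.nd (.nd .nil (.nd (.nd (.lf (.wit [2, 1] [0, 0])) (.lf (.wit [2, 1] [0, 0]))) (.nd (.lf (.wit [2, 1] [0, 0])) (.lf (.wit [2, 1] [0, 1]))))) .nil))) (.nd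 (.nd (.nd (.nd (.nd (.nd (.lf (.wit [2, 1] [0, 0])) (.lf (.wit [2, 1] [0, 0]))) (.nd (.lf (.wit [2, 1] [0, 0])) (.lf (.wit [2, 1] [0, 1])))) .nil) .nil) (.nd (.nd .nil (.nd (.nd (.lf (.wit [2, 1] [0, 0])) (.lf (.wit [2, 1] [0, 0]))) (.nd (.lf (.wit [2, 1] [3, 0])) (.lf (.wit [2, 1] [0, 3]))))) .nil)) (.nd (.nd (.nd (.nd (.nd (.lf (.wit [2, 1] [0, 0])) (.lf (.wit [2, 1] [0, 1]))) (.nd (.lf (.wit [2, 1] [0, 0])) (.lf (.wit [2, 1] [0, 0])))) .nil) .nil) (.nd (.nd .nil (.nd (.nd (.lf (.wit [2, 1] [0, 1])) (.lf (.wit [2, 1] [0, 0]))) (.nd (.lf (.wit [2, 1] [1, 0])) (.lf (.wit [2, 1] [0, 0]))))) .nil)))) (.nd (.nd (.nd (.nd (.nd (.nd (.nd (.lf (.wit [2, 1] [0, 3])) (.lf (.wit [2, 1] [3, 0]))) (.nd (.lf (.wit [2, 1] [0, 0])) (.lf (.wit [2, 1] [0, 0])))) .nil) .nil) (.nd (.nd .nil (.nd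 (.nd (.lf (.wit [2, 1] [0, 1])) (.lf (.wit [2, 1] [0, 0]))) (.nd (.lf (.wit [2, 1] [0, 0])) (.lf (.wit [2, 1] [0, 0]))))) .nil)) (.nd (.nd (.nd (.nd (.nd (.lf (.wit [2, 1] [0, 0])) (.lf (.wit [2, 1] [1, 0]))) (.nd (.lf (.wit [2, 1] [0, 0])) (.lf (.wit [2, 1] [0, 1])))) .nil) .nil) (.nd (.nd .nil (.nd (.nd (.lf (.wit [2, 1] [0, 0])) (.lf (.wit [2, 1] [0, 0]))) (.nd (.lf (.wit [2, 1] [0, 1])) (.lf (.wit [2, 1] [0, 0]))))) .nil))) (.nd (.nd (.nd (.nd (.nd (.nd (.lf (.wit [2, 1] [0, 0])) (.lf (.wit [7, 6] [1, 1]))) (.nd (.lf (.wit [2, 1] [0, 0])) (.lf (.wit [2, 1] [0, 0])))) .nil) .nil) (.nd (.nd .nil (.nd (.nd (.lf (.wit [2, 1] [0, 0])) (.lf (.wit [2, 1] [0, 0]))) (.nd (.lf (.wit [2, 1] [0, 3])) (.lf (.wit [2, 1] [3, 0]))))) .nil)) (.nd (.nd (.nd (.nd (.nd (.lf (.wit [2, 1] [0, 1]))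 (.lf (.wit [2, 1] [0, 0]))) (.nd (.lf (.wit [2, 1] [0, 0])) (.lf (.wit [2, 1] [0, 0])))) .nil) .nil) (.nd (.nd .nil (.nd (.nd (.lf (.wit [2, 1] [0, 0])) (.lf (.wit [2, 1] [0, 0]))) (.nd (.lf (.wit [2, 1] [0, 0])) (.lf (.wit [2, 1] [1, 0]))))) .nil)))))

theorem k39 : chkCand DD ap iv bsL 0 3510 [2, 3] cd39 39 = true := by decide +kernel

/-- The candidates of a coset. -/
def cd42 : CT :=
  (.nd (.nd (.nd (.nd (.nd (.nd (.nd (.lf (.wit [1, 5] [0, 0])) (.lf (.wit [2, 1] [0, 0]))) .nil) (.nd (.nd (.lf (.wit [2, 1] [0, 0])) (.lf (.wit [2, 1] [0, 0]))) .nil)) (.nd (.nd .nil (.nd (.lf (.wit [2, 1] [0, 0])) (.lf (.wit [2, 1] [0, 0])))) (.nd .nil (.nd (.lf (.wit [2, 1] [0, 0])) (.lf (.wit [2, 1] [1, 0])))))) (.nd (.nd (.nd (.nd (.lf (.wit [2, 1] [0, 0])) (.lf (.wit [2, 1] [0, 0]))) .nil)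 (.nd (.nd (.lf (.wit [2, 1] [0, 0])) (.lf (.wit [2, 1] [0, 0]))) .nil)) (.nd (.nd .nil (.nd (.lf (.wit [2, 1] [0, 0])) (.lf (.wit [2, 1] [0, 0])))) (.nd .nil (.nd (.lf (.wit [2, 1] [0, 0])) (.lf (.wit [2, 1] [0, 0]))))))) (.nd (.nd (.nd (.nd (.nd (.lf (.wit [7, 6] [0, 0])) (.lf (.wit [2, 1] [0, 0]))) .nil) (.nd (.nd (.lf (.wit [2, 1] [0, 0])) (.lf (.wit [2, 1] [0, 0]))) .nil)) (.nd (.nd .nil (.nd (.lf (.wit [2, 1] [0, 0])) (.lf (.wit [2, 1] [0, 0])))) (.nd .nil (.nd (.lf (.wit [2, 1] [0, 0])) (.lf (.wit [2, 1] [0, 0])))))) (.nd (.nd (.nd (.nd (.lf (.wit [2, 1] [0, 0])) (.lf (.wit [2, 1] [0, 0]))) .nil) (.nd (.nd (.lf (.wit [2, 1] [0, 0])) (.lf (.wit [2, 1] [0, 0]))) .nil)) (.nd (.nd .nil (.nd (.lf (.wit [2, 1] [0, 0])) (.lf (.wit [2, 1] [0, 0])))) (.nd .nil (.nd (.lf (.wit [2, 1]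 [0, 0])) (.lf (.wit [2, 1] [0, 0])))))))) (.nd (.nd (.nd (.nd (.nd (.nd (.lf (.wit [2, 1] [0, 0])) (.lf (.wit [2, 1] [0, 0]))) .nil) (.nd (.nd (.lf (.wit [2, 1] [0, 0])) (.lf (.wit [2, 1] [0, 0]))) .nil)) (.nd (.nd .nil (.nd (.lf (.wit [2, 1] [0, 0])) (.lf (.wit [2, 1] [0, 3])))) (.nd .nil (.nd (.lf (.wit [2, 1] [0, 0])) (.lf (.wit [2, 1] [0, 0])))))) (.nd (.nd (.nd (.nd (.lf (.wit [2, 1] [0, 0])) (.lf (.wit [2, 1] [0, 0]))) .nil) (.nd (.nd (.lf (.wit [2, 1] [0, 0])) (.lf (.wit [2, 1] [0, 0]))) .nil)) (.nd (.nd .nil (.nd (.lf (.wit [2, 1] [0, 0])) (.lf (.wit [2, 1] [0, 0])))) (.nd .nil (.nd (.lf (.wit [2, 1] [0, 0])) (.lf (.wit [2, 1] [0, 0]))))))) (.nd (.nd (.nd (.nd (.nd (.lf (.wit [2, 1] [0, 0])) (.lf (.wit [2, 1] [0, 0]))) .nil) (.nd (.nd (.lf (.wit [2, 1] [0, 0])) (.lf (.wit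 [2, 1] [0, 0]))) .nil)) (.nd (.nd .nil (.nd (.lf (.wit [2, 1] [0, 0])) (.lf (.wit [3, 1] [0, 0])))) (.nd .nil (.nd (.lf (.wit [2, 1] [0, 0])) (.lf (.wit [2, 1] [0, 0])))))) (.nd (.nd (.nd (.nd (.lf (.wit [2, 1] [0, 0])) (.lf (.wit [2, 1] [0, 0]))) .nil) (.nd (.nd (.lf (.wit [2, 1] [0, 0])) (.lf (.wit [2, 1] [0, 0]))) .nil)) (.nd (.nd .nil (.nd (.lf (.wit [2, 1] [0, 0])) (.lf (.wit [1, 5] [0, 0])))) (.nd .nil (.nd (.lf (.wit [2, 1] [0, 0])) (.lf (.wit [2, 1] [1, 0])))))))))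

theorem k42 : chkCand DD ap iv bsL 0 3510 [2, 3] cd42 42 = true := by decide +kernel

/-- The candidates of a coset. -/
def cd46 : CT :=
  (.nd (.nd (.nd (.nd (.nd (.nd (.nd (.nd (.nd (.lf (.wit [3, 1] [0, 0])) (.lf (.wit [2, 1] [0, 0]))) .nil) (.nd (.nd (.lf (.wit [2, 1] [0, 0])) (.lf (.wit [2, 1] [0, 0]))) .nil)) .nil) .nil) (.nd .nil (.nd .nil (.nd (.nd (.nd (.lf (.wit [2, 1] [1, 0])) (.lf (.wit [2, 1] [2, 0]))) .nil) (.nd (.nd (.lf (.wit [4, 1] [2, 0])) (.lf (.wit [2, 1] [0, 0]))) .nil))))) (.nd (.nd (.nd (.nd (.nd .nil (.nd (.lf (.wit [2, 1] [3, 0])) (.lf (.wit [2, 1] [1, 0])))) (.nd .nil (.nd (.lf (.wit [2, 1] [0, 0])) (.lf (.wit [2, 1] [0, 1]))))) .nil) .nil) (.nd .nil (.nd .nil (.nd (.nd .nil (.nd (.lf (.wit [2, 1] [0, 0])) (.lf (.wit [2, 1] [0, 1])))) (.nd .nil (.nd (.lf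 (.wit [2, 1] [0, 1])) (.lf (.wit [2, 1] [0, 0]))))))))) (.nd (.nd (.nd .nil (.nd (.nd (.nd .nil (.nd (.lf (.wit [2, 1] [0, 0])) (.lf (.wit [2, 1] [0, 0])))) (.nd .nil (.nd (.lf (.wit [2, 1] [0, 1])) (.lf (.wit [2, 1] [0, 0]))))) .nil)) (.nd (.nd .nil (.nd (.nd .nil (.nd (.lf (.wit [2, 1] [0, 1])) (.lf (.wit [2, 1] [0, 0])))) (.nd .nil (.nd (.lf (.wit [2, 1] [1, 0])) (.lf (.wit [2, 1] [2, 0])))))) .nil)) (.nd (.nd .nil (.nd (.nd (.nd (.nd (.lf (.wit [2, 1] [0, 0])) (.lf (.wit [4, 1] [3, 0]))) .nil) (.nd (.nd (.lf (.wit [2, 1] [3, 0])) (.lf (.wit [2, 1] [1, 0]))) .nil)) .nil)) (.nd (.nd .nil (.nd (.nd (.nd (.lf (.wit [2, 1] [0, 1])) (.lf (.wit [2, 1] [0, 0]))) .nil) (.nd (.nd (.lf (.wit [2, 1] [0, 0])) (.lf (.wit [4, 3] [1, 1]))) .nil))) .nil)))) (.nd (.nd (.nd (.nd (.nd (.nd (.nd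 (.nd (.lf (.wit [2, 1] [0, 0])) (.lf (.wit [2, 1] [0, 0]))) .nil) (.nd (.nd (.lf (.wit [2, 1] [0, 0])) (.lf (.wit [2, 1] [0, 0]))) .nil)) .nil) .nil) (.nd .nil (.nd .nil (.nd (.nd (.nd (.lf (.wit [2, 1] [0, 0])) (.lf (.wit [2, 1] [0, 0]))) .nil) (.nd (.nd (.lf (.wit [2, 1] [0, 0])) (.lf (.wit [2, 1] [0, 0]))) .nil))))) (.nd (.nd (.nd (.nd (.nd .nil (.nd (.lf (.wit [2, 1] [0, 3])) (.lf (.wit [2, 1] [0, 0])))) (.nd .nil (.nd (.lf (.wit [2, 1] [0, 0])) (.lf (.wit [2, 1] [0, 0]))))) .nil) .nil) (.nd .nil (.nd .nil (.nd (.nd .nil (.nd (.lf (.wit [4, 3] [1, 1])) (.lf (.wit [2, 1] [0, 0])))) (.nd .nil (.nd (.lf (.wit [2, 1] [0, 0])) (.lf (.wit [2, 1] [0, 0]))))))))) (.nd (.nd (.nd .nil (.nd (.nd (.nd .nil (.nd (.lf (.wit [2, 1] [0, 0])) (.lf (.wit [2, 1] [0, 0])))) (.nd .nil (.nd (.lf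 (.wit [2, 1] [0, 0])) (.lf (.wit [2, 1] [0, 0]))))) .nil)) (.nd (.nd .nil (.nd (.nd .nil (.nd (.lf (.wit [2, 1] [0, 0])) (.lf (.wit [2, 1] [0, 0])))) (.nd .nil (.nd (.lf (.wit [2, 1] [0, 0])) (.lf (.wit [2, 1] [0, 0])))))) .nil)) (.nd (.nd .nil (.nd (.nd (.nd (.nd (.lf (.wit [2, 1] [0, 0])) (.lf (.wit [2, 1] [0, 0]))) .nil) (.nd (.nd (.lf (.wit [2, 1] [0, 3])) (.lf (.wit [2, 1] [0, 0]))) .nil)) .nil)) (.nd (.nd .nil (.nd (.nd (.nd (.lf (.wit [2, 1] [0, 0])) (.lf (.wit [2, 1] [0, 0]))) .nil) (.nd (.nd (.lf (.wit [3, 1] [0, 0])) (.lf (.wit [2, 1] [0, 0]))) .nil))) .nil)))))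

theorem k46 : chkCand DD ap iv bsL 0 3510 [2, 3] cd46 46 = true := by decide +kernel

/-- The candidates of a coset. -/
def cd48 : CT :=
  (.nd (.nd (.nd (.nd (.nd (.nd (.nd (.lf (.wit [2, 1] [0, 0])) (.lf (.wit [2, 1] [0, 0]))) (.nd (.lf (.wit [2, 1] [0, 0])) (.lf (.wit [2, 1] [0, 0])))) (.nd (.nd (.lf (.wit [0, 6] [0, 0])) (.lf (.wit [2, 1] [0, 0]))) (.nd (.lf (.wit [2, 1] [0, 3])) (.lf (.wit [2, 1] [0, 0]))))) .nil) (.nd (.nd (.nd (.nd (.lf (.wit [2, 1] [0, 0])) (.lf (.wit [2, 1] [0, 0]))) (.nd (.lf (.wit [2, 1] [0, 0])) (.lf (.wit [2, 1] [0, 0])))) (.nd (.nd (.lf (.wit [2, 1] [0, 0])) (.lf (.wit [2, 1] [0, 0]))) (.nd (.lf (.wit [2, 1] [0, 0])) (.lf (.wit [2, 1] [0, 0]))))) .nil)) (.nd (.nd .nil (.nd (.nd (.nd (.lf (.wit [2, 1] [0, 0])) (.lf (.wit [2, 1] [0, 0]))) (.nd (.lf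 (.wit [2, 1] [0, 0])) (.lf (.wit [2, 1] [0, 0])))) (.nd (.nd (.lf (.wit [2, 1] [0, 0])) (.lf (.wit [2, 1] [0, 0]))) (.nd (.lf (.wit [2, 1] [0, 0])) (.lf (.wit [2, 1] [0, 0])))))) (.nd .nil (.nd (.nd (.nd (.lf (.wit [2, 1] [0, 0])) (.lf (.wit [2, 1] [0, 0]))) (.nd (.lf (.wit [2, 1] [0, 0])) (.lf (.wit [2, 1] [0, 0])))) (.nd (.nd (.lf (.wit [2, 1] [0, 0])) (.lf (.wit [2, 1] [0, 0]))) (.nd (.lf (.wit [2, 1] [0, 0])) (.lf (.wit [2, 1] [0, 0])))))))) (.nd (.nd (.nd (.nd (.nd (.nd (.lf (.wit [2, 1] [0, 0])) (.lf (.wit [2, 1] [0, 0]))) (.nd (.lf (.wit [2, 1] [0, 0])) (.lf (.wit [2, 1] [0, 0])))) (.nd (.nd (.lf (.wit [2, 1] [0, 0])) (.lf (.wit [2, 1] [0, 0]))) (.nd (.lf (.wit [2, 1] [0, 0])) (.lf (.wit [2, 1] [1, 0]))))) .nil) (.nd (.nd (.nd (.nd (.lf (.wit [2, 1] [0, 0])) (.lf (.wit [3,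 7] [0, 0]))) (.nd (.lf (.wit [2, 1] [0, 0])) (.lf (.wit [4, 1] [0, 0])))) (.nd (.nd (.lf (.wit [2, 1] [0, 0])) (.lf (.wit [2, 1] [0, 0]))) (.nd (.lf (.wit [2, 1] [0, 0])) (.lf (.wit [2, 1] [0, 0]))))) .nil)) (.nd (.nd .nil (.nd (.nd (.nd (.lf (.wit [2, 1] [0, 0])) (.lf (.wit [2, 1] [0, 0]))) (.nd (.lf (.wit [2, 1] [0, 0])) (.lf (.wit [2, 1] [0, 0])))) (.nd (.nd (.lf (.wit [2, 1] [0, 0])) (.lf (.wit [2, 1] [0, 0]))) (.nd (.lf (.wit [2, 1] [0, 0])) (.lf (.wit [2, 1] [0, 0])))))) (.nd .nil (.nd (.nd (.nd (.lf (.wit [2, 1] [0, 0])) (.lf (.wit [2, 1] [0, 0]))) (.nd (.lf (.wit [2, 1] [0, 0])) (.lf (.wit [2, 1] [1, 0])))) (.nd (.nd (.lf (.wit [2, 1] [0, 0])) (.lf (.wit [2, 1] [0, 0]))) (.nd (.lf (.wit [2, 1] [0, 0])) (.lf (.wit [0, 6] [0, 0])))))))))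

theorem k48 : chkCand DD ap iv bsL 0 3510 [2, 3] cd48 48 = true := by decide +kernel

/-- The candidates of a coset. -/
def cd52 : CT :=
  (.nd (.nd (.nd (.nd (.nd .nil (.nd (.nd (.lf (.wit [2, 1] [0, 0])) (.lf (.wit [4, 1] [0, 0]))) (.nd (.lf (.wit [7, 6] [1, 1])) (.lf (.wit [2, 1] [1, 0]))))) (.nd (.nd (.nd (.lf (.wit [2, 1] [0, 0])) (.lf (.wit [2, 1] [0, 0]))) (.nd (.lf (.wit [2, 1] [3, 0])) (.lf (.wit [2, 1] [0, 0])))) .nil)) (.nd (.nd (.nd (.nd (.lf (.wit [2, 1] [0, 3])) (.lf (.wit [2, 1] [0, 0]))) (.nd (.lf (.wit [2, 1] [0, 1])) (.lf (.wit [2, 1] [0, 0])))) .nil) (.nd .nil (.nd (.nd (.lf (.wit [2, 1] [0, 0])) (.lf (.wit [2, 1] [0, 0]))) (.nd (.lf (.wit [2, 1] [0, 1])) (.lf (.wit [2, 1] [0, 0]))))))) (.nd (.nd (.nd .nil (.nd (.nd (.lf (.wit [2, 1] [0, 1])) (.lf (.wit [2, 1]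 [0, 0]))) (.nd (.lf (.wit [2, 1] [0, 0])) (.lf (.wit [2, 1] [0, 0]))))) (.nd (.nd (.nd (.lf (.wit [2, 1] [0, 0])) (.lf (.wit [2, 1] [0, 0]))) (.nd (.lf (.wit [2, 1] [0, 0])) (.lf (.wit [2, 1] [0, 0])))) .nil)) (.nd (.nd (.nd (.nd (.lf (.wit [4, 1] [2, 0])) (.lf (.wit [2, 1] [1, 0]))) (.nd (.lf (.wit [2, 1] [0, 0])) (.lf (.wit [2, 1] [0, 0])))) .nil) (.nd .nil (.nd (.nd (.lf (.wit [2, 1] [2, 0])) (.lf (.wit [2, 1] [0, 0]))) (.nd (.lf (.wit [2, 1] [0, 0])) (.lf (.wit [2, 1] [0, 0])))))))) (.nd (.nd (.nd (.nd .nil (.nd (.nd (.lf (.wit [2, 1] [0, 1])) (.lf (.wit [2, 1] [0, 0]))) (.nd (.lf (.wit [2, 1] [0, 0])) (.lf (.wit [2, 1] [0, 0]))))) (.nd (.nd (.nd (.lf (.wit [7, 6] [1, 1])) (.lf (.wit [2, 1] [0, 0]))) (.nd (.lf (.wit [2, 1] [0, 3])) (.lf (.wit [2, 1] [0, 0])))) .nil)) (.nd (.nd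 (.nd (.nd (.lf (.wit [2, 1] [3, 0])) (.lf (.wit [2, 1] [0, 0]))) (.nd (.lf (.wit [2, 1] [0, 0])) (.lf (.wit [2, 1] [0, 0])))) .nil) (.nd .nil (.nd (.nd (.lf (.wit [2, 1] [0, 1])) (.lf (.wit [2, 1] [1, 0]))) (.nd (.lf (.wit [2, 1] [0, 0])) (.lf (.wit [7, 6] [1, 1]))))))) (.nd (.nd (.nd .nil (.nd (.nd (.lf (.wit [2, 1] [0, 0])) (.lf (.wit [2, 1] [0, 0]))) (.nd (.lf (.wit [2, 1] [2, 0])) (.lf (.wit [2, 1] [0, 0]))))) (.nd (.nd (.nd (.lf (.wit [2, 1] [0, 0])) (.lf (.wit [2, 1] [0, 0]))) (.nd (.lf (.wit [2, 1] [0, 1])) (.lf (.wit [2, 1] [1, 0])))) .nil)) (.nd (.nd (.nd (.nd (.lf (.wit [2, 1] [0, 0])) (.lf (.wit [2, 1] [0, 0]))) (.nd (.lf (.wit [2, 1] [0, 0])) (.lf (.wit [2, 1] [0, 0])))) .nil) (.nd .nil (.nd (.nd (.lf (.wit [2, 1] [0, 0])) (.lf (.wit [2, 1] [0, 0]))) (.nd (.lf (.wit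 [4, 1] [0, 0])) (.lf (.wit [2, 1] [0, 0])))))))))

theorem k52 : chkCand DD ap iv bsL 0 3510 [2, 3] cd52 52 = true := by decide +kernel

/-- The candidates of a coset. -/
def cd58 : CT :=
  (.nd (.nd (.nd (.nd (.nd (.nd (.nd (.nd (.lf (.wit [2, 1] [0, 0])) (.lf (.wit [2, 1] [0, 0]))) (.nd (.lf (.wit [2, 1] [0, 0])) (.lf (.wit [7, 6] [0, 1])))) .nil) (.nd (.nd (.nd (.lf (.wit [3, 1] [0, 0])) (.lf (.wit [2, 1] [0, 0]))) (.nd (.lf (.wit [2, 1] [0, 0])) (.lf (.wit [2, 1] [0, 0])))) .nil)) (.nd (.nd (.nd (.nd (.lf (.wit [2, 1] [0, 0])) (.lf (.wit [2, 1] [0, 0]))) (.nd (.lf (.wit [2, 1] [0, 0])) (.lf (.wit [2, 1] [0, 0])))) .nil) (.nd (.nd (.nd (.lf (.wit [2, 1] [0, 0])) (.lf (.wit [2, 1] [0, 0]))) (.nd (.lf (.wit [2, 1] [0, 0])) (.lf (.wit [7, 6] [0, 0])))) .nil))) .nil) (.nd (.nd (.nd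 (.nd .nil (.nd (.nd (.lf (.wit [2, 1] [0, 0])) (.lf (.wit [2, 1] [0, 0]))) (.nd (.lf (.wit [2, 1] [0, 0])) (.lf (.wit [2, 1] [0, 0]))))) (.nd .nil (.nd (.nd (.lf (.wit [2, 1] [0, 0])) (.lf (.wit [7, 6] [0, 0]))) (.nd (.lf (.wit [2, 1] [0, 0])) (.lf (.wit [2, 1] [0, 0])))))) (.nd (.nd .nil (.nd (.nd (.lf (.wit [2, 1] [0, 0])) (.lf (.wit [3, 1] [0, 0]))) (.nd (.lf (.wit [2, 1] [0, 0])) (.lf (.wit [2, 1] [0, 0]))))) (.nd .nil (.nd (.nd (.lf (.wit [2, 1] [0, 0])) (.lf (.wit [2, 1] [0, 0]))) (.nd (.lf (.wit [2, 1] [0, 0])) (.lf (.wit [2, 1] [0, 0]))))))) .nil)) (.nd (.nd .nil (.nd (.nd (.nd (.nd (.nd (.lf (.wit [2, 1] [0, 0])) (.lf (.wit [2, 1] [0, 0]))) (.nd (.lf (.wit [2, 1] [0, 0])) (.lf (.wit [2, 1] [0, 0])))) .nil) (.nd (.nd (.nd (.lf (.wit [2, 1] [0, 0])) (.lf (.wit [2, 1] [0,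 0]))) (.nd (.lf (.wit [2, 1] [0, 0])) (.lf (.wit [2, 1] [0, 0])))) .nil)) (.nd (.nd (.nd (.nd (.lf (.wit [2, 1] [0, 0])) (.lf (.wit [2, 1] [0, 0]))) (.nd (.lf (.wit [2, 1] [0, 0])) (.lf (.wit [2, 1] [1, 0])))) .nil) (.nd (.nd (.nd (.lf (.wit [2, 1] [0, 0])) (.lf (.wit [2, 1] [0, 0]))) (.nd (.lf (.wit [2, 1] [0, 0])) (.lf (.wit [2, 1] [0, 0])))) .nil)))) (.nd .nil (.nd (.nd (.nd .nil (.nd (.nd (.lf (.wit [2, 1] [0, 0])) (.lf (.wit [2, 1] [1, 0]))) (.nd (.lf (.wit [2, 1] [0, 0])) (.lf (.wit [2, 1] [0, 0]))))) (.nd .nil (.nd (.nd (.lf (.wit [2, 1] [0, 0])) (.lf (.wit [2, 1] [0, 0]))) (.nd (.lf (.wit [2, 1] [0, 0])) (.lf (.wit [2, 1] [0, 0])))))) (.nd (.nd .nil (.nd (.nd (.lf (.wit [2, 1] [0, 0])) (.lf (.wit [2, 1] [0, 0]))) (.nd (.lf (.wit [2, 1] [0, 0])) (.lf (.wit [2, 1] [0, 0])))))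 (.nd .nil (.nd (.nd (.lf (.wit [2, 1] [0, 0])) (.lf (.wit [2, 1] [0, 0]))) (.nd (.lf (.wit [2, 1] [0, 0])) (.lf (.wit [3, 1] [0, 0]))))))))))

theorem k58 : chkCand DD ap iv bsL 0 3510 [2, 3] cd58 58 = true := by decide +kernel

/-- The candidates of a coset. -/
def cd61 : CT :=
  (.nd (.nd (.nd (.nd (.nd .nil (.nd (.nd (.lf (.wit [2, 1] [0, 0])) (.lf (.wit [2, 1] [0, 0]))) (.nd (.lf (.wit [2, 1] [0, 0])) (.lf (.wit [2, 1] [0, 1]))))) (.nd .nil (.nd (.nd (.lf (.wit [2, 1] [0, 0])) (.lf (.wit [2, 1] [1, 0]))) (.nd (.lf (.wit [2, 1] [0, 0])) (.lf (.wit [2, 1] [0, 0])))))) (.nd (.nd (.nd (.nd (.lf (.wit [2, 1] [1, 0])) (.lf (.wit [2, 1] [0, 1]))) (.nd (.lf (.wit [2, 1] [0, 0])) (.lf (.wit [2, 1] [0, 0])))) .nil) (.nd (.nd (.nd (.lf (.wit [2, 1] [0, 0])) (.lf (.wit [2, 1] [0, 0])))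 (.nd (.lf (.wit [2, 1] [0, 1])) (.lf (.wit [2, 1] [0, 0])))) .nil))) (.nd (.nd (.nd (.nd (.nd (.lf (.wit [2, 1] [0, 1])) (.lf (.wit [2, 1] [0, 0]))) (.nd (.lf (.wit [2, 1] [0, 0])) (.lf (.wit [2, 1] [0, 3])))) .nil) (.nd (.nd (.nd (.lf (.wit [2, 1] [0, 0])) (.lf (.wit [2, 1] [0, 0]))) (.nd (.lf (.wit [2, 1] [0, 0])) (.lf (.wit [2, 1] [3, 0])))) .nil)) (.nd (.nd .nil (.nd (.nd (.lf (.wit [7, 6] [1, 1])) (.lf (.wit [2, 1] [0, 0]))) (.nd (.lf (.wit [2, 1] [3, 0])) (.lf (.wit [2, 1] [0, 0]))))) (.nd .nil (.nd (.nd (.lf (.wit [2, 1] [0, 0])) (.lf (.wit [2, 1] [0, 0]))) (.nd (.lf (.wit [2, 1] [0, 3])) (.lf (.wit [2, 1] [0, 0])))))))) (.nd (.nd (.nd (.nd .nil (.nd (.nd (.lf (.wit [2, 1] [0, 1])) (.lf (.wit [2, 1] [1, 0]))) (.nd (.lf (.wit [2, 1] [0, 0])) (.lf (.wit [2, 1] [0, 0]))))) (.nd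 .nil (.nd (.nd (.lf (.wit [2, 1] [0, 0])) (.lf (.wit [2, 1] [0, 0]))) (.nd (.lf (.wit [2, 1] [0, 0])) (.lf (.wit [2, 1] [0, 1])))))) (.nd (.nd (.nd (.nd (.lf (.wit [2, 1] [0, 0])) (.lf (.wit [2, 1] [0, 0]))) (.nd (.lf (.wit [2, 1] [0, 1])) (.lf (.wit [2, 1] [0, 0])))) .nil) (.nd (.nd (.nd (.lf (.wit [2, 1] [1, 0])) (.lf (.wit [2, 1] [0, 0]))) (.nd (.lf (.wit [2, 1] [0, 0])) (.lf (.wit [2, 1] [0, 0])))) .nil))) (.nd (.nd (.nd (.nd (.nd (.lf (.wit [2, 1] [0, 0])) (.lf (.wit [3, 1] [0, 0]))) (.nd (.lf (.wit [2, 1] [0, 0])) (.lf (.wit [2, 1] [3, 0])))) .nil) (.nd (.nd (.nd (.lf (.wit [2, 1] [0, 0])) (.lf (.wit [2, 1] [0, 0]))) (.nd (.lf (.wit [2, 1] [0, 0])) (.lf (.wit [2, 1] [0, 3])))) .nil)) (.nd (.nd .nil (.nd (.nd (.lf (.wit [2, 1] [0, 0])) (.lf (.wit [2, 1] [0, 1]))) (.nd (.lf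 (.wit [2, 1] [0, 3])) (.lf (.wit [2, 1] [0, 0]))))) (.nd .nil (.nd (.nd (.lf (.wit [2, 1] [0, 0])) (.lf (.wit [2, 1] [0, 0]))) (.nd (.lf (.wit [4, 1] [0, 0])) (.lf (.wit [2, 1] [0, 0])))))))))

theorem k61 : chkCand DD ap iv bsL 0 3510 [2, 3] cd61 61 = true := by decide +kernel

/-- The candidates of a coset. -/
def cd68 : CT :=
  (.nd (.nd (.nd (.nd (.nd (.nd (.nd (.nd (.nd (.lf (.wit [2, 1] [0, 1])) (.lf (.wit [2, 1] [0, 0]))) (.nd (.lf (.wit [2, 1] [0, 0])) (.lf (.wit [2, 1] [0, 0])))) .nil) .nil) (.nd (.nd (.nd (.nd (.lf (.wit [2, 1] [0, 0])) (.lf (.wit [2, 1] [0, 0]))) (.nd (.lf (.wit [2, 1] [0, 0])) (.lf (.wit [2, 1] [0, 0])))) .nil) .nil)) .nil) (.nd (.nd (.nd (.nd (.nd (.nd (.lf (.wit [2, 1] [0, 0])) (.lf (.wit [2, 1] [0, 1]))) (.nd (.lf (.wit [2, 1] [0, 0])) (.lf (.wit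 [2, 1] [0, 0])))) .nil) .nil) (.nd (.nd (.nd (.nd (.lf (.wit [2, 1] [0, 0])) (.lf (.wit [2, 1] [0, 0]))) (.nd (.lf (.wit [2, 1] [0, 0])) (.lf (.wit [2, 1] [0, 0])))) .nil) .nil)) .nil)) (.nd (.nd .nil (.nd (.nd .nil (.nd .nil (.nd (.nd (.lf (.wit [2, 1] [0, 0])) (.lf (.wit [2, 1] [0, 0]))) (.nd (.lf (.wit [2, 1] [0, 0])) (.lf (.wit [2, 1] [0, 0])))))) (.nd .nil (.nd .nil (.nd (.nd (.lf (.wit [2, 1] [0, 0])) (.lf (.wit [2, 1] [0, 0]))) (.nd (.lf (.wit [2, 1] [0, 0])) (.lf (.wit [2, 1] [0, 0])))))))) (.nd .nil (.nd (.nd .nil (.nd .nil (.nd (.nd (.lf (.wit [2, 1] [0, 0])) (.lf (.wit [2, 1] [0, 0]))) (.nd (.lf (.wit [2, 1] [0, 0])) (.lf (.wit [2, 1] [0, 0])))))) (.nd .nil (.nd .nil (.nd (.nd (.lf (.wit [2, 1] [0, 0])) (.lf (.wit [2, 1] [0, 0]))) (.nd (.lf (.wit [2, 1] [0, 0])) (.lf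 (.wit [2, 1] [0, 0])))))))))) (.nd (.nd (.nd (.nd (.nd (.nd .nil (.nd (.nd (.lf (.wit [4, 6, 2] [0, 0])) (.lf (.wit [7, 6] [0, 0]))) (.nd (.lf (.wit [2, 1] [0, 0])) (.lf (.wit [2, 1] [0, 0]))))) .nil) (.nd (.nd .nil (.nd (.nd (.lf (.wit [2, 1] [0, 0])) (.lf (.wit [2, 1] [0, 0]))) (.nd (.lf (.wit [2, 1] [0, 0])) (.lf (.wit [7, 6] [0, 0]))))) .nil)) .nil) (.nd (.nd (.nd (.nd .nil (.nd (.nd (.lf (.wit [7, 0] [2, 1])) (.lf (.wit [4, 3] [0, 0]))) (.nd (.lf (.wit [2, 1] [0, 0])) (.lf (.wit [2, 1] [0, 0]))))) .nil) (.nd (.nd .nil (.nd (.nd (.lf (.wit [2, 1] [0, 0])) (.lf (.wit [2, 1] [0, 0]))) (.nd (.lf (.wit [2, 1] [0, 0])) (.lf (.wit [2, 1] [0, 0]))))) .nil)) .nil)) (.nd (.nd .nil (.nd (.nd .nil (.nd (.nd (.nd (.lf (.wit [7, 0] [2, 1])) (.lf (.wit [0, 6] [0, 0]))) (.nd (.lf (.wit [2,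 1] [0, 0])) (.lf (.wit [2, 1] [0, 0])))) .nil)) (.nd .nil (.nd (.nd (.nd (.lf (.wit [2, 1] [0, 0])) (.lf (.wit [2, 1] [0, 0]))) (.nd (.lf (.wit [2, 1] [0, 0])) (.lf (.wit [2, 1] [0, 0])))) .nil)))) (.nd .nil (.nd (.nd .nil (.nd (.nd (.nd (.lf (.wit [4, 3] [0, 0])) (.lf (.wit [7, 6] [0, 0]))) (.nd (.lf (.wit [2, 1] [0, 0])) (.lf (.wit [2, 1] [0, 0])))) .nil)) (.nd .nil (.nd (.nd (.nd (.lf (.wit [2, 1] [0, 0])) (.lf (.wit [2, 1] [0, 0]))) (.nd (.lf (.wit [2, 1] [0, 0])) (.lf (.wit [2, 1] [0, 0])))) .nil)))))))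

theorem k68 : chkCand DD ap iv bsL 0 3510 [2, 3] cd68 68 = true := by decide +kernel

/-- The candidates of a coset. -/
def cd77 : CT :=
  (.nd (.nd (.nd (.nd (.nd (.nd (.nd (.lf (.wit [2, 1] [0, 0])) (.lf (.wit [2, 1] [0, 0]))) (.nd (.lf (.wit [2, 1] [0, 0])) (.lf (.wit [2, 1] [0, 0])))) (.nd (.nd (.lf (.wit [2, 1] [0, 0])) (.lf (.wit [2, 1] [0, 0]))) (.nd (.lf (.wit [2, 1] [0, 0])) (.lf (.wit [2, 1] [0, 0]))))) .nil) (.nd (.nd (.nd (.nd (.lf (.wit [2, 1] [0, 0])) (.lf (.wit [2, 1] [0, 0]))) (.nd (.lf (.wit [2, 1] [0, 0])) (.lf (.wit [2, 1] [0, 0])))) (.nd (.nd (.lf (.wit [2, 1] [0, 0])) (.lf (.wit [2, 1] [0, 0]))) (.nd (.lf (.wit [2, 1] [0, 0])) (.lf (.wit [2, 1] [0, 0]))))) .nil)) (.nd (.nd .nil (.nd (.nd (.nd (.lf (.wit [2, 1] [0, 0])) (.lf (.wit [2, 1] [0, 0]))) (.nd (.lf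 (.wit [2, 1] [0, 0])) (.lf (.wit [2, 1] [0, 0])))) (.nd (.nd (.lf (.wit [2, 1] [0, 0])) (.lf (.wit [2, 1] [0, 0]))) (.nd (.lf (.wit [2, 1] [0, 0])) (.lf (.wit [2, 1] [0, 0])))))) (.nd .nil (.nd (.nd (.nd (.lf (.wit [2, 1] [0, 0])) (.lf (.wit [2, 1] [0, 0]))) (.nd (.lf (.wit [2, 1] [0, 0])) (.lf (.wit [2, 1] [0, 0])))) (.nd (.nd (.lf (.wit [2, 1] [0, 0])) (.lf (.wit [2, 1] [0, 0]))) (.nd (.lf (.wit [2, 1] [0, 0])) (.lf (.wit [2, 1] [0, 0])))))))) (.nd (.nd (.nd (.nd (.nd (.nd (.lf (.wit [2, 1] [0, 0])) (.lf (.wit [4, 3] [0, 0]))) (.nd (.lf (.wit [2, 1] [0, 0])) (.lf (.wit [4, 1] [0, 0])))) (.nd (.nd (.lf (.wit [7, 6] [0, 0])) (.lf (.wit [2, 1] [0, 0]))) (.nd (.lf (.wit [2, 1] [0, 0])) (.lf (.wit [2, 1] [0, 0]))))) .nil) (.nd (.nd (.nd (.nd (.lf (.wit [2, 1] [0, 0])) (.lf (.wit [2,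 1] [0, 0]))) (.nd (.lf (.wit [2, 1] [0, 0])) (.lf (.wit [2, 1] [0, 0])))) (.nd (.nd (.lf (.wit [4, 3] [0, 0])) (.lf (.wit [2, 1] [0, 0]))) (.nd (.lf (.wit [2, 1] [0, 0])) (.lf (.wit [2, 1] [0, 0]))))) .nil)) (.nd (.nd .nil (.nd (.nd (.nd (.lf (.wit [2, 1] [0, 0])) (.lf (.wit [2, 1] [0, 0]))) (.nd (.lf (.wit [2, 1] [0, 0])) (.lf (.wit [2, 1] [0, 0])))) (.nd (.nd (.lf (.wit [2, 1] [0, 0])) (.lf (.wit [2, 1] [0, 0]))) (.nd (.lf (.wit [2, 1] [0, 0])) (.lf (.wit [2, 1] [0, 0])))))) (.nd .nil (.nd (.nd (.nd (.lf (.wit [2, 1] [0, 0])) (.lf (.wit [2, 1] [0, 0]))) (.nd (.lf (.wit [2, 1] [0, 0])) (.lf (.wit [2, 1] [0, 0])))) (.nd (.nd (.lf (.wit [2, 1] [0, 0])) (.lf (.wit [2, 1] [0, 0]))) (.nd (.lf (.wit [2, 1] [0, 0])) (.lf (.wit [2, 1] [0, 0])))))))))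

theorem k77 : chkCand DD ap iv bsL 0 3510 [2, 3] cd77 77 = true := by decide +kernel

/-- The candidates of a coset. -/
def cd84 : CT :=
  (.nd (.nd (.nd (.nd (.nd (.nd (.nd .nil (.nd (.lf (.wit [2, 1] [0, 0])) (.lf (.wit [2, 1] [0, 0])))) .nil) (.nd (.nd .nil (.nd (.lf (.wit [2, 1] [0, 0])) (.lf (.wit [2, 1] [0, 0])))) .nil)) (.nd (.nd .nil (.nd .nil (.nd (.lf (.wit [2, 1] [0, 0])) (.lf (.wit [4, 1] [0, 0]))))) (.nd .nil (.nd .nil (.nd (.lf (.wit [2, 1] [0, 0])) (.lf (.wit [2, 1] [0, 0]))))))) (.nd (.nd (.nd (.nd (.nd (.lf (.wit [2, 1] [0, 0])) (.lf (.wit [2, 1] [0, 0]))) .nil) .nil) (.nd (.nd (.nd (.lf (.wit [2, 1] [0, 0])) (.lf (.wit [2, 1] [0, 0]))) .nil) .nil)) (.nd (.nd .nil (.nd (.nd (.lf (.wit [2, 1] [0, 0])) (.lf (.wit [2, 1] [0, 0]))) .nil)) (.nd .nil (.nd (.nd (.lf (.wit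 [2, 1] [0, 0])) (.lf (.wit [2, 1] [0, 0]))) .nil))))) (.nd (.nd (.nd (.nd (.nd .nil (.nd (.lf (.wit [2, 1] [0, 0])) (.lf (.wit [2, 1] [0, 0])))) .nil) (.nd (.nd .nil (.nd (.lf (.wit [2, 1] [0, 0])) (.lf (.wit [2, 1] [0, 0])))) .nil)) (.nd (.nd .nil (.nd .nil (.nd (.lf (.wit [2, 1] [0, 0])) (.lf (.wit [2, 1] [0, 0]))))) (.nd .nil (.nd .nil (.nd (.lf (.wit [2, 1] [0, 0])) (.lf (.wit [2, 1] [0, 0]))))))) (.nd (.nd (.nd (.nd (.nd (.lf (.wit [2, 1] [0, 0])) (.lf (.wit [2, 1] [0, 0]))) .nil) .nil) (.nd (.nd (.nd (.lf (.wit [2, 1] [0, 0])) (.lf (.wit [2, 1] [0, 0]))) .nil) .nil)) (.nd (.nd .nil (.nd (.nd (.lf (.wit [2, 1] [0, 0])) (.lf (.wit [2, 1] [0, 0]))) .nil)) (.nd .nil (.nd (.nd (.lf (.wit [2, 1] [0, 0])) (.lf (.wit [2, 1] [0, 0]))) .nil)))))) (.nd (.nd (.nd (.nd (.nd (.nd (.nd (.lf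 (.wit [4, 3] [0, 0])) (.lf (.wit [1, 5] [0, 0]))) .nil) .nil) (.nd (.nd (.nd (.lf (.wit [2, 1] [0, 0])) (.lf (.wit [2, 1] [0, 0]))) .nil) .nil)) (.nd (.nd .nil (.nd (.nd (.lf (.wit [2, 1] [0, 0])) (.lf (.wit [2, 1] [0, 0]))) .nil)) (.nd .nil (.nd (.nd (.lf (.wit [2, 1] [0, 0])) (.lf (.wit [2, 1] [0, 0]))) .nil)))) (.nd (.nd (.nd (.nd .nil (.nd (.lf (.wit [2, 1] [0, 0])) (.lf (.wit [2, 1] [0, 0])))) .nil) (.nd (.nd .nil (.nd (.lf (.wit [2, 1] [0, 0])) (.lf (.wit [2, 1] [0, 0])))) .nil)) (.nd (.nd .nil (.nd .nil (.nd (.lf (.wit [2, 1] [0, 0])) (.lf (.wit [2, 1] [0, 0]))))) (.nd .nil (.nd .nil (.nd (.lf (.wit [2, 1] [0, 0])) (.lf (.wit [2, 1] [0, 0])))))))) (.nd (.nd (.nd (.nd (.nd (.nd (.lf (.wit [2, 1] [0, 0])) (.lf (.wit [2, 1] [0, 0]))) .nil) .nil) (.nd (.nd (.nd (.lf (.wit [2,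 1] [0, 0])) (.lf (.wit [2, 1] [0, 0]))) .nil) .nil)) (.nd (.nd .nil (.nd (.nd (.lf (.wit [2, 1] [0, 0])) (.lf (.wit [2, 1] [0, 0]))) .nil)) (.nd .nil (.nd (.nd (.lf (.wit [1, 5] [0, 0])) (.lf (.wit [2, 1] [0, 0]))) .nil)))) (.nd (.nd (.nd (.nd .nil (.nd (.lf (.wit [2, 1] [0, 0])) (.lf (.wit [2, 1] [0, 0])))) .nil) (.nd (.nd .nil (.nd (.lf (.wit [2, 1] [0, 0])) (.lf (.wit [2, 1] [0, 0])))) .nil)) (.nd (.nd .nil (.nd .nil (.nd (.lf (.wit [2, 1] [0, 0])) (.lf (.wit [2, 1] [0, 0]))))) (.nd .nil (.nd .nil (.nd (.lf (.wit [2, 1] [0, 0])) (.lf (.wit [2, 1] [0, 0]))))))))))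

theorem k84 : chkCand DD ap iv bsL 0 3510 [2, 3] cd84 84 = true := by decide +kernel

/-- The candidates of a coset. -/
def cd93 : CT :=
  (.nd (.nd (.nd (.nd (.nd (.nd (.nd (.lf (.wit [2, 1] [0, 0])) (.lf (.wit [2, 1] [0, 1]))) .nil) (.nd (.nd (.lf (.wit [2, 1] [0, 0])) (.lf (.wit [2, 1] [0, 0]))) .nil)) (.nd (.nd (.nd (.lf (.wit [2, 1] [0, 0])) (.lf (.wit [2, 1] [0, 0]))) .nil) (.nd (.nd (.lf (.wit [2, 1] [0, 0])) (.lf (.wit [2, 1] [0, 0]))) .nil))) (.nd (.nd (.nd (.nd (.lf (.wit [2, 1] [0, 0])) (.lf (.wit [2, 1] [0, 0]))) .nil) (.nd (.nd (.lf (.wit [2, 1] [0, 0])) (.lf (.wit [2, 1] [0, 0]))) .nil)) (.nd (.nd (.nd (.lf (.wit [2, 1] [0, 0])) (.lf (.wit [2, 1] [0, 0]))) .nil) (.nd (.nd (.lf (.wit [2, 1] [0, 0])) (.lf (.wit [2, 1] [0, 0]))) .nil)))) (.nd (.nd (.nd (.nd .nil (.nd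 (.lf (.wit [2, 1] [0, 0])) (.lf (.wit [2, 1] [0, 0])))) (.nd .nil (.nd (.lf (.wit [2, 1] [0, 0])) (.lf (.wit [2, 1] [0, 0]))))) (.nd (.nd .nil (.nd (.lf (.wit [2, 1] [0, 1])) (.lf (.wit [2, 1] [0, 0])))) (.nd .nil (.nd (.lf (.wit [2, 1] [0, 0])) (.lf (.wit [2, 1] [0, 0])))))) (.nd (.nd (.nd .nil (.nd (.lf (.wit [2, 1] [0, 0])) (.lf (.wit [2, 1] [0, 0])))) (.nd .nil (.nd (.lf (.wit [2, 1] [0, 0])) (.lf (.wit [2, 1] [0, 0]))))) (.nd (.nd .nil (.nd (.lf (.wit [2, 1] [0, 0])) (.lf (.wit [2, 1] [0, 0])))) (.nd .nil (.nd (.lf (.wit [2, 1] [0, 0])) (.lf (.wit [2, 1] [0, 0])))))))) (.nd (.nd (.nd (.nd (.nd (.nd (.lf (.wit [1, 2, 8] [0, 0])) (.lf (.wit [3, 1] [0, 0]))) .nil) (.nd (.nd (.lf (.wit [2, 1] [0, 0])) (.lf (.wit [2, 1] [0, 0]))) .nil)) (.nd (.nd (.nd (.lf (.wit [2, 1] [0, 0]))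 (.lf (.wit [2, 1] [0, 0]))) .nil) (.nd (.nd (.lf (.wit [2, 1] [0, 0])) (.lf (.wit [7, 6] [0, 0]))) .nil))) (.nd (.nd (.nd (.nd (.lf (.wit [4, 3] [0, 0])) (.lf (.wit [2, 1] [0, 0]))) .nil) (.nd (.nd (.lf (.wit [2, 1] [0, 0])) (.lf (.wit [2, 1] [0, 0]))) .nil)) (.nd (.nd (.nd (.lf (.wit [2, 1] [0, 0])) (.lf (.wit [2, 1] [0, 0]))) .nil) (.nd (.nd (.lf (.wit [2, 1] [0, 0])) (.lf (.wit [7, 6] [0, 0]))) .nil)))) (.nd (.nd (.nd (.nd .nil (.nd (.lf (.wit [2, 1] [0, 0])) (.lf (.wit [2, 1] [0, 0])))) (.nd .nil (.nd (.lf (.wit [7, 6] [0, 0])) (.lf (.wit [2, 1] [0, 0]))))) (.nd (.nd .nil (.nd (.lf (.wit [2, 1] [0, 0])) (.lf (.wit [3, 6] [0, 0])))) (.nd .nil (.nd (.lf (.wit [2, 1] [0, 0])) (.lf (.wit [2, 1] [0, 0])))))) (.nd (.nd (.nd .nil (.nd (.lf (.wit [2, 1] [0, 0])) (.lf (.wit [2, 1] [0,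 0])))) (.nd .nil (.nd (.lf (.wit [7, 6] [0, 0])) (.lf (.wit [2, 1] [0, 0]))))) (.nd (.nd .nil (.nd (.lf (.wit [2, 1] [0, 0])) (.lf (.wit [4, 3] [0, 0])))) (.nd .nil (.nd (.lf (.wit [2, 1] [0, 0])) (.lf (.wit [2, 1] [0, 0])))))))))

theorem k93 : chkCand DD ap iv bsL 0 3510 [2, 3] cd93 93 = true := by decide +kernel

/-- The candidates of a coset. -/
def cd100 : CT :=
  (.nd (.nd (.nd (.nd (.nd (.nd (.nd (.lf (.wit [2, 1] [0, 0])) (.lf (.wit [2, 1] [0, 0]))) .nil) (.nd (.nd (.lf (.wit [2, 1] [0, 0])) (.lf (.wit [2, 1] [0, 0]))) .nil)) (.nd (.nd (.nd (.lf (.wit [2, 1] [1, 0])) (.lf (.wit [2, 1] [0, 0]))) .nil) (.nd (.nd (.lf (.wit [2, 1] [0, 0])) (.lf (.wit [2, 1] [0, 0]))) .nil))) (.nd (.nd (.nd (.nd (.lf (.wit [2, 1] [0, 0])) (.lf (.wit [2, 1] [0, 0]))) .nil) (.nd (.nd (.lf (.wit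 [2, 1] [0, 0])) (.lf (.wit [3, 1] [0, 0]))) .nil)) (.nd (.nd (.nd (.lf (.wit [2, 1] [0, 0])) (.lf (.wit [2, 1] [0, 0]))) .nil) (.nd (.nd (.lf (.wit [2, 1] [0, 0])) (.lf (.wit [2, 1] [0, 0]))) .nil)))) (.nd (.nd (.nd (.nd .nil (.nd (.lf (.wit [2, 1] [0, 0])) (.lf (.wit [2, 1] [1, 0])))) (.nd .nil (.nd (.lf (.wit [2, 1] [0, 0])) (.lf (.wit [2, 1] [0, 0]))))) (.nd (.nd .nil (.nd (.lf (.wit [2, 1] [0, 0])) (.lf (.wit [2, 1] [0, 0])))) (.nd .nil (.nd (.lf (.wit [2, 1] [0, 0])) (.lf (.wit [2, 1] [0, 0])))))) (.nd (.nd (.nd .nil (.nd (.lf (.wit [2, 1] [0, 0])) (.lf (.wit [2, 1] [0, 0])))) (.nd .nil (.nd (.lf (.wit [2, 1] [0, 0])) (.lf (.wit [2, 1] [0, 0]))))) (.nd (.nd .nil (.nd (.lf (.wit [2, 1] [0, 0])) (.lf (.wit [2, 1] [0, 0])))) (.nd .nil (.nd (.lf (.wit [2, 1] [0, 0])) (.lf (.wit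 [2, 1] [0, 0])))))))) (.nd (.nd (.nd (.nd (.nd (.nd (.lf (.wit [3, 1] [0, 0])) (.lf (.wit [2, 1] [0, 0]))) .nil) (.nd (.nd (.lf (.wit [2, 1] [0, 0])) (.lf (.wit [4, 3] [0, 0]))) .nil)) (.nd (.nd (.nd (.lf (.wit [2, 1] [0, 0])) (.lf (.wit [2, 1] [0, 0]))) .nil) (.nd (.nd (.lf (.wit [7, 6] [1, 1])) (.lf (.wit [2, 1] [0, 0]))) .nil))) (.nd (.nd (.nd (.nd (.lf (.wit [2, 1] [0, 0])) (.lf (.wit [2, 1] [0, 0]))) .nil) (.nd (.nd (.lf (.wit [2, 1] [0, 0])) (.lf (.wit [2, 1] [0, 0]))) .nil)) (.nd (.nd (.nd (.lf (.wit [2, 1] [0, 0])) (.lf (.wit [2, 1] [0, 0]))) .nil) (.nd (.nd (.lf (.wit [2, 1] [0, 0])) (.lf (.wit [2, 1] [0, 0]))) .nil)))) (.nd (.nd (.nd (.nd .nil (.nd (.lf (.wit [2, 1] [0, 0])) (.lf (.wit [2, 1] [0, 0])))) (.nd .nil (.nd (.lf (.wit [2, 1] [0, 0])) (.lf (.wit [7, 6] [1, 1])))))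 (.nd (.nd .nil (.nd (.lf (.wit [2, 1] [0, 0])) (.lf (.wit [1, 5] [0, 0])))) (.nd .nil (.nd (.lf (.wit [2, 1] [0, 0])) (.lf (.wit [2, 1] [0, 0])))))) (.nd (.nd (.nd .nil (.nd (.lf (.wit [2, 1] [0, 0])) (.lf (.wit [2, 1] [0, 0])))) (.nd .nil (.nd (.lf (.wit [2, 1] [0, 0])) (.lf (.wit [2, 1] [0, 0]))))) (.nd (.nd .nil (.nd (.lf (.wit [2, 1] [0, 0])) (.lf (.wit [2, 1] [0, 0])))) (.nd .nil (.nd (.lf (.wit [2, 1] [0, 0])) (.lf (.wit [2, 1] [0, 0])))))))))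

theorem k100 : chkCand DD ap iv bsL 0 3510 [2, 3] cd100 100 = true := by decide +kernel

/-- The candidates of a coset. -/
def cd109 : CT :=
  (.nd (.nd (.nd (.nd (.nd (.nd (.nd (.nd (.nd (.lf (.wit [2, 1] [0, 0])) (.lf (.wit [2, 1] [0, 0]))) (.nd (.lf (.wit [2, 1] [0, 0])) (.lf (.wit [2, 1] [0, 0])))) .nil) .nil) (.nd (.nd (.nd (.nd (.lf (.wit [2, 1] [0, 0])) (.lf (.wit [2, 1] [0, 0]))) (.nd (.lf (.wit [2, 1] [1, 0])) (.lf (.wit [2, 1] [0, 0])))) .nil) .nil)) .nil) (.nd (.nd (.nd (.nd (.nd (.nd (.lf (.wit [2, 1] [0, 0])) (.lf (.wit [2, 1] [0, 0]))) (.nd (.lf (.wit [2, 1] [0, 0])) (.lf (.wit [2, 1] [0, 0])))) .nil) .nil) (.nd (.nd (.nd (.nd (.lf (.wit [2, 1] [0, 0])) (.lf (.wit [2, 1] [0, 0]))) (.nd (.lf (.wit [2, 1] [0, 0])) (.lf (.wit [2, 1] [1, 0])))) .nil) .nil)) .nil)) (.nd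 (.nd .nil (.nd (.nd .nil (.nd (.nd (.nd (.lf (.wit [2, 1] [0, 0])) (.lf (.wit [3, 1] [0, 0]))) (.nd (.lf (.wit [2, 1] [0, 0])) (.lf (.wit [2, 1] [0, 0])))) .nil)) (.nd .nil (.nd (.nd (.nd (.lf (.wit [2, 1] [0, 0])) (.lf (.wit [2, 1] [0, 0]))) (.nd (.lf (.wit [2, 1] [0, 0])) (.lf (.wit [2, 1] [0, 0])))) .nil)))) (.nd .nil (.nd (.nd .nil (.nd (.nd (.nd (.lf (.wit [2, 1] [0, 0])) (.lf (.wit [2, 1] [0, 0]))) (.nd (.lf (.wit [2, 1] [0, 0])) (.lf (.wit [2, 1] [0, 0])))) .nil)) (.nd .nil (.nd (.nd (.nd (.lf (.wit [2, 1] [0, 0])) (.lf (.wit [2, 1] [0, 0]))) (.nd (.lf (.wit [2, 1] [0, 0])) (.lf (.wit [2, 1] [0, 0])))) .nil)))))) (.nd (.nd (.nd (.nd (.nd (.nd (.nd (.nd (.lf (.wit [2, 1] [0, 0])) (.lf (.wit [2, 1] [0, 0]))) (.nd (.lf (.wit [4, 1] [0, 0])) (.lf (.wit [2, 1] [0, 0])))) .nil)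 .nil) (.nd (.nd (.nd (.nd (.lf (.wit [3, 1] [0, 0])) (.lf (.wit [2, 1] [0, 0]))) (.nd (.lf (.wit [2, 1] [0, 0])) (.lf (.wit [3, 1] [0, 0])))) .nil) .nil)) .nil) (.nd (.nd (.nd (.nd (.nd (.nd (.lf (.wit [2, 1] [0, 0])) (.lf (.wit [2, 1] [0, 0]))) (.nd (.lf (.wit [2, 1] [0, 0])) (.lf (.wit [4, 1] [0, 0])))) .nil) .nil) (.nd (.nd (.nd (.nd (.lf (.wit [2, 1] [0, 0])) (.lf (.wit [4, 3] [0, 0]))) (.nd (.lf (.wit [2, 1] [0, 0])) (.lf (.wit [2, 1] [0, 0])))) .nil) .nil)) .nil)) (.nd (.nd .nil (.nd (.nd .nil (.nd (.nd (.nd (.lf (.wit [2, 1] [0, 0])) (.lf (.wit [2, 1] [0, 0]))) (.nd (.lf (.wit [2, 1] [0, 0])) (.lf (.wit [2, 1] [0, 0])))) .nil)) (.nd .nil (.nd (.nd (.nd (.lf (.wit [2, 1] [0, 0])) (.lf (.wit [2, 1] [0, 0]))) (.nd (.lf (.wit [2, 1] [0, 0])) (.lf (.wit [2, 1] [0, 0])))) .nil))))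 (.nd .nil (.nd (.nd .nil (.nd (.nd (.nd (.lf (.wit [2, 1] [0, 0])) (.lf (.wit [2, 1] [0, 0]))) (.nd (.lf (.wit [2, 1] [0, 0])) (.lf (.wit [2, 1] [0, 0])))) .nil)) (.nd .nil (.nd (.nd (.nd (.lf (.wit [2, 1] [0, 0])) (.lf (.wit [2, 1] [0, 0]))) (.nd (.lf (.wit [2, 1] [0, 0])) (.lf (.wit [2, 1] [0, 0])))) .nil)))))))

theorem k109 : chkCand DD ap iv bsL 0 3510 [2, 3] cd109 109 = true := by decide +kernel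

/-- The candidates of a coset. -/
def cd116 : CT :=
  (.nd (.nd (.nd (.nd (.nd (.nd (.nd (.lf (.wit [4, 3] [0, 0])) (.lf (.wit [2, 1] [0, 0]))) .nil) (.nd (.nd (.lf (.wit [2, 1] [0, 0])) (.lf (.wit [2, 1] [0, 0]))) .nil)) (.nd (.nd .nil (.nd (.lf (.wit [2, 1] [0, 0])) (.lf (.wit [2, 1] [0, 0])))) (.nd .nil (.nd (.lf (.wit [2, 1] [0, 0])) (.lf (.wit [2, 1] [0, 0])))))) (.nd (.nd (.nd (.nd (.lf (.wit [2, 1] [0, 0])) (.lf (.wit [2, 1] [0, 0]))) .nil) (.nd (.nd (.lf (.wit [2, 1] [0, 0])) (.lf (.wit [2, 1] [0, 0]))) .nil)) (.nd (.nd .nil (.nd (.lf (.wit [2, 1] [0, 0])) (.lf (.wit [2, 1] [0, 0])))) (.nd .nil (.nd (.lf (.wit [2, 1] [0, 0])) (.lf (.wit [2, 1] [0, 0]))))))) (.nd (.nd (.nd (.nd (.nd (.lf (.wit [4, 1] [0, 0])) (.lf (.wit [2, 1] [0, 0]))) .nil) (.nd (.nd (.lf (.wit [2, 1]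 [0, 0])) (.lf (.wit [2, 1] [0, 0]))) .nil)) (.nd (.nd .nil (.nd (.lf (.wit [2, 1] [0, 0])) (.lf (.wit [2, 1] [0, 0])))) (.nd .nil (.nd (.lf (.wit [2, 1] [0, 0])) (.lf (.wit [2, 1] [0, 0])))))) (.nd (.nd (.nd (.nd (.lf (.wit [2, 1] [0, 0])) (.lf (.wit [2, 1] [0, 0]))) .nil) (.nd (.nd (.lf (.wit [2, 1] [1, 0])) (.lf (.wit [2, 1] [0, 0]))) .nil)) (.nd (.nd .nil (.nd (.lf (.wit [2, 1] [0, 0])) (.lf (.wit [2, 1] [0, 0])))) (.nd .nil (.nd (.lf (.wit [2, 1] [0, 0])) (.lf (.wit [2, 1] [0, 0])))))))) (.nd (.nd (.nd (.nd (.nd (.nd (.lf (.wit [4, 3] [0, 0])) (.lf (.wit [2, 1] [0, 0]))) .nil) (.nd (.nd (.lf (.wit [2, 1] [1, 0])) (.lf (.wit [3, 1] [0, 0]))) .nil)) (.nd (.nd .nil (.nd (.lf (.wit [2, 1] [0, 0])) (.lf (.wit [2, 1] [0, 0])))) (.nd .nil (.nd (.lf (.wit [2, 1] [0, 0])) (.lf (.wit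 [2, 1] [0, 0])))))) (.nd (.nd (.nd (.nd (.lf (.wit [2, 1] [0, 0])) (.lf (.wit [2, 1] [0, 0]))) .nil) (.nd (.nd (.lf (.wit [2, 1] [0, 0])) (.lf (.wit [2, 1] [0, 0]))) .nil)) (.nd (.nd .nil (.nd (.lf (.wit [2, 1] [0, 0])) (.lf (.wit [2, 1] [0, 0])))) (.nd .nil (.nd (.lf (.wit [2, 1] [0, 0])) (.lf (.wit [2, 1] [0, 0]))))))) (.nd (.nd (.nd (.nd (.nd (.lf (.wit [2, 1] [0, 0])) (.lf (.wit [2, 1] [0, 0]))) .nil) (.nd (.nd (.lf (.wit [2, 1] [0, 0])) (.lf (.wit [2, 1] [0, 3]))) .nil)) (.nd (.nd .nil (.nd (.lf (.wit [2, 1] [0, 0])) (.lf (.wit [2, 1] [0, 0])))) (.nd .nil (.nd (.lf (.wit [2, 1] [0, 0])) (.lf (.wit [2, 1] [0, 0])))))) (.nd (.nd (.nd (.nd (.lf (.wit [2, 1] [0, 0])) (.lf (.wit [2, 1] [0, 0]))) .nil) (.nd (.nd (.lf (.wit [2, 1] [0, 0])) (.lf (.wit [2, 1] [0, 0]))) .nil)) (.nd (.nd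 .nil (.nd (.lf (.wit [2, 1] [0, 0])) (.lf (.wit [2, 1] [0, 0])))) (.nd .nil (.nd (.lf (.wit [2, 1] [0, 0])) (.lf (.wit [2, 1] [0, 0])))))))))

theorem k116 : chkCand DD ap iv bsL 0 3510 [2, 3] cd116 116 = true := by decide +kernel

/-- The candidates of a coset. -/
def cd125 : CT :=
  (.nd (.nd (.nd (.nd (.nd (.nd (.nd .nil (.nd (.lf (.wit [2, 1] [0, 0])) (.lf (.wit [3, 1] [0, 0])))) (.nd .nil (.nd (.lf (.wit [2, 1] [0, 0])) (.lf (.wit [2, 1] [0, 0]))))) (.nd (.nd .nil (.nd (.lf (.wit [2, 1] [0, 0])) (.lf (.wit [2, 1] [0, 0])))) (.nd .nil (.nd (.lf (.wit [2, 1] [0, 0])) (.lf (.wit [2, 1] [0, 0])))))) .nil) (.nd (.nd (.nd (.nd (.nd (.lf (.wit [2, 1] [0, 0])) (.lf (.wit [2, 1] [0, 0]))) .nil) (.nd (.nd (.lf (.wit [2, 1] [0, 0])) (.lf (.wit [2, 1] [0, 0]))) .nil)) (.nd (.nd (.nd (.lf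 (.wit [2, 1] [0, 0])) (.lf (.wit [2, 1] [0, 0]))) .nil) (.nd (.nd (.lf (.wit [2, 1] [0, 0])) (.lf (.wit [2, 1] [0, 3]))) .nil))) .nil)) (.nd (.nd .nil (.nd (.nd (.nd (.nd (.lf (.wit [2, 1] [0, 0])) (.lf (.wit [2, 1] [0, 0]))) .nil) (.nd (.nd (.lf (.wit [2, 1] [0, 0])) (.lf (.wit [2, 1] [0, 0]))) .nil)) (.nd (.nd (.nd (.lf (.wit [2, 1] [0, 0])) (.lf (.wit [2, 1] [0, 0]))) .nil) (.nd (.nd (.lf (.wit [2, 1] [0, 0])) (.lf (.wit [2, 1] [0, 0]))) .nil)))) (.nd .nil (.nd (.nd (.nd .nil (.nd (.lf (.wit [2, 1] [0, 0])) (.lf (.wit [2, 1] [0, 0])))) (.nd .nil (.nd (.lf (.wit [2, 1] [0, 0])) (.lf (.wit [2, 1] [0, 0]))))) (.nd (.nd .nil (.nd (.lf (.wit [2, 1] [0, 0])) (.lf (.wit [2, 1] [0, 0])))) (.nd .nil (.nd (.lf (.wit [2, 1] [0, 0])) (.lf (.wit [2, 1] [0, 0]))))))))) (.nd (.nd (.nd (.nd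 (.nd (.nd .nil (.nd (.lf (.wit [3, 1] [0, 0])) (.lf (.wit [3, 1] [0, 0])))) (.nd .nil (.nd (.lf (.wit [2, 1] [0, 0])) (.lf (.wit [2, 1] [0, 0]))))) (.nd (.nd .nil (.nd (.lf (.wit [2, 1] [0, 0])) (.lf (.wit [2, 1] [1, 0])))) (.nd .nil (.nd (.lf (.wit [2, 1] [0, 0])) (.lf (.wit [2, 1] [0, 0])))))) .nil) (.nd (.nd (.nd (.nd (.nd (.lf (.wit [2, 1] [0, 0])) (.lf (.wit [2, 1] [0, 0]))) .nil) (.nd (.nd (.lf (.wit [2, 1] [0, 0])) (.lf (.wit [2, 1] [0, 0]))) .nil)) (.nd (.nd (.nd (.lf (.wit [2, 1] [0, 0])) (.lf (.wit [2, 1] [0, 0]))) .nil) (.nd (.nd (.lf (.wit [7, 6] [1, 1])) (.lf (.wit [2, 1] [0, 0]))) .nil))) .nil)) (.nd (.nd .nil (.nd (.nd (.nd (.nd (.lf (.wit [2, 1] [0, 0])) (.lf (.wit [2, 1] [0, 0]))) .nil) (.nd (.nd (.lf (.wit [2, 1] [0, 0])) (.lf (.wit [2, 1] [0, 0]))) .nil)) (.nd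 (.nd (.nd (.lf (.wit [2, 1] [0, 0])) (.lf (.wit [2, 1] [0, 0]))) .nil) (.nd (.nd (.lf (.wit [2, 1] [0, 0])) (.lf (.wit [2, 1] [0, 0]))) .nil)))) (.nd .nil (.nd (.nd (.nd .nil (.nd (.lf (.wit [2, 1] [1, 0])) (.lf (.wit [2, 1] [0, 0])))) (.nd .nil (.nd (.lf (.wit [2, 1] [0, 0])) (.lf (.wit [2, 1] [0, 0]))))) (.nd (.nd .nil (.nd (.lf (.wit [2, 1] [0, 0])) (.lf (.wit [2, 1] [0, 0])))) (.nd .nil (.nd (.lf (.wit [2, 1] [0, 0])) (.lf (.wit [2, 1] [0, 0]))))))))))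

theorem k125 : chkCand DD ap iv bsL 0 3510 [2, 3] cd125 125 = true := by decide +kernel

end Cfsg.Agent.TcChain36.Out.Fi22
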