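import Mathlib
import Cfsg.Agent.TcChain36.Out.Fi22.Cd0

set_option autoImplicit false
set_option maxRecDepth 1000000
set_option linter.all false

namespace Cfsg.Agent.TcChain36.Out.Fi22

open Cfsg.Agent.Lib.OutTree36

open Cfsg.Agent.TcData.Fi22.I3510 Cfsg.Agent.TcData.Fi22 Cfsg.Agent.TcChain36.Fi22

/-- The candidates. -/
def cdF (i : ℕ) : CT :=
  (bif Nat.blt i 64 then (bif Nat.blt i 32 then (bif Nat.blt i 16 then (bif Nat.blt i 8 then (bif Nat.blt i 4 then (bif Nat.blt i 2 then (bif Nat.blt i 1 then cd0 else cd1) else (bif Nat.blt i 3 then cd2 else cd3)) else (bif Nat.blt i 6 then (bif Nat.blt i 5 then cd4 else .nil) else (bif Nat.blt i 7 then .nil else cd7))) else (bif Nat.blt i 12 then (bif Nat.blt i 10 then (bif Nat.blt i 9 then cd8 else cd9) else (bif Nat.blt i 11 then cd10 else cd11)) else (bif Nat.blt i 14 then (bif Nat.blt i 13 then .nil else cd13) else (bif Nat.blt i 15 then cd14 else .nil)))) else (bif Nat.blt i 24 then (bif Nat.blt i 20 then (bif Nat.blt i 18 then (bif Nat.blt i 17 then cd16 else cd17) else (bif Nat.blt i 19 then cd18 else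 cd19)) else (bif Nat.blt i 22 then (bif Nat.blt i 21 then .nil else .nil) else (bif Nat.blt i 23 then .nil else .nil))) else (bif Nat.blt i 28 then (bif Nat.blt i 26 then (bif Nat.blt i 25 then cd24 else cd25) else (bif Nat.blt i 27 then cd26 else cd27)) else (bif Nat.blt i 30 then (bif Nat.blt i 29 then .nil else .nil) else (bif Nat.blt i 31 then .nil else .nil))))) else (bif Nat.blt i 48 then (bif Nat.blt i 40 then (bif Nat.blt i 36 then (bif Nat.blt i 34 then (bif Nat.blt i 33 then cd32 else .nil) else (bif Nat.blt i 35 then .nil else .nil)) else (bif Nat.blt i 38 then (bif Nat.blt i 37 then .nil else .nil) else (bif Nat.blt i 39 then .nil else cd39))) else (bif Nat.blt i 44 then (bif Nat.blt i 42 then (bif Nat.blt i 41 then .nil else .nil) else (bif Nat.blt i 43 then cd42 else .nil)) else (bif Nat.blt i 46 then (bif Nat.blt i 45 then .nil else .nil) else (bif Nat.blt i 47 then cd46 else .nil)))) else (bif Nat.blt i 56 then (bif Nat.blt i 52 then (bif Nat.blt i 50 then (bif Nat.blt i 49 then cd48 else .nil) else (bif Nat.blt i 51 then .nil else .nil))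 else (bif Nat.blt i 54 then (bif Nat.blt i 53 then cd52 else .nil) else (bif Nat.blt i 55 then .nil else .nil))) else (bif Nat.blt i 60 then (bif Nat.blt i 58 then (bif Nat.blt i 57 then .nil else .nil) else (bif Nat.blt i 59 then cd58 else .nil)) else (bif Nat.blt i 62 then (bif Nat.blt i 61 then .nil else cd61) else (bif Nat.blt i 63 then .nil else .nil)))))) else (bif Nat.blt i 96 then (bif Nat.blt i 80 then (bif Nat.blt i 72 then (bif Nat.blt i 68 then (bif Nat.blt i 66 then (bif Nat.blt i 65 then .nil else .nil) else (bif Nat.blt i 67 then .nil else .nil)) else (bif Nat.blt i 70 then (bif Nat.blt i 69 then cd68 else .nil) else (bif Nat.blt i 71 then .nil else .nil))) else (bif Nat.blt i 76 then (bif Nat.blt i 74 then (bif Nat.blt i 73 then .nil else .nil) else (bif Nat.blt i 75 then .nil else .nil)) else (bif Nat.blt i 78 then (bif Nat.blt i 77 then .nil else cd77) else (bif Nat.blt i 79 then .nil else .nil)))) else (bif Nat.blt i 88 then (bif Nat.blt i 84 then (bif Nat.blt i 82 then (bif Nat.blt i 81 then .nil else .nil) else (bif Nat.blt i 83 then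 .nil else .nil)) else (bif Nat.blt i 86 then (bif Nat.blt i 85 then cd84 else .nil) else (bif Nat.blt i 87 then .nil else .nil))) else (bif Nat.blt i 92 then (bif Nat.blt i 90 then (bif Nat.blt i 89 then .nil else .nil) else (bif Nat.blt i 91 then .nil else .nil)) else (bif Nat.blt i 94 then (bif Nat.blt i 93 then .nil else cd93) else (bif Nat.blt i 95 then .nil else .nil))))) else (bif Nat.blt i 112 then (bif Nat.blt i 104 then (bif Nat.blt i 100 then (bif Nat.blt i 98 then (bif Nat.blt i 97 then .nil else .nil) else (bif Nat.blt i 99 then .nil else .nil)) else (bif Nat.blt i 102 then (bif Nat.blt i 101 then cd100 else .nil) else (bif Nat.blt i 103 then .nil else .nil))) else (bif Nat.blt i 108 then (bif Nat.blt i 106 then (bif Nat.blt i 105 then .nil else .nil) else (bif Nat.blt i 107 then .nil else .nil)) else (bif Nat.blt i 110 then (bif Nat.blt i 109 then .nil else cd109) else (bif Nat.blt i 111 then .nil else .nil)))) else (bif Nat.blt i 120 then (bif Nat.blt i 116 then (bif Nat.blt i 114 then (bif Nat.blt i 113 then .nil else .nil) else (bif Nat.blt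 i 115 then .nil else .nil)) else (bif Nat.blt i 118 then (bif Nat.blt i 117 then cd116 else .nil) else (bif Nat.blt i 119 then .nil else .nil))) else (bif Nat.blt i 124 then (bif Nat.blt i 122 then (bif Nat.blt i 121 then .nil else .nil) else (bif Nat.blt i 123 then .nil else .nil)) else (bif Nat.blt i 126 then (bif Nat.blt i 125 then .nil else cd125) else (bif Nat.blt i 127 then .nil else .nil)))))))

theorem kz (i : ℕ) (hi : i ∈ ([5, 6, 12, 15, 20, 21, 22, 23, 28, 29, 30, 31, 33, 34, 35, 36, 37, 38, 40, 41, 43, 44, 45, 47, 49, 50, 51, 53, 54, 55, 56, 57, 59, 60, 62, 63, 64, 65, 66, 67, 69, 70, 71, 72, 73, 74, 75, 76, 78, 79, 80, 81, 82, 83, 85, 86, 87, 88, 89, 90, 91, 92, 94, 95, 96, 97, 98, 99, 101, 102, 103, 104, 105, 106, 107, 108, 110, 111, 112, 113, 114, 115, 117, 118, 119, 120, 121, 122, 123, 124, 126, 127] : List ℕ)) : chkCand DD ap iv bsL 0 3510 [2, 3] .nil i = true := by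
  revert i
  decide +kernel

theorem hCd : ∀ i, i < DD.N → chkCand DD ap iv bsL 0 3510 [2, 3] (cdF i) i = true := by
  intro i hi
  have hi2 : i < 128 := hi
  interval_cases i
  · exact k0
  · exact k1
  · exact k2
  · exact k3
  · exact k4
  · exact kz 5 (by decide)
  · exact kz 6 (by decide)
  · exact k7
  · exact k8
  · exact k9
  · exact k10
  · exact k11
  · exact kz 12 (by decide)
  · exact k13
  · exact k14
  · exact kz 15 (by decide)
  · exact k16
  · exact k17
  · exact k18
  · exact k19
  · exact kz 20 (by decide)
  · exact kz 21 (by decide)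
  · exact kz 22 (by decide)
  · exact kz 23 (by decide)
  · exact k24
  · exact k25
  · exact k26
  · exact k27
  · exact kz 28 (by decide)
  · exact kz 29 (by decide)
  · exact kz 30 (by decide)
  · exact kz 31 (by decide)
  · exact k32
  · exact kz 33 (by decide)
  · exact kz 34 (by decide)
  · exact kz 35 (by decide)
  · exact kz 36 (by decide)
  · exact kz 37 (by decide)
  · exact kz 38 (by decide)
  · exact k39
  · exact kz 40 (by decide)
  · exact kz 41 (by decide)
  · exact k42
  · exact kz 43 (by decide)
  · exact kz 44 (by decide)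
  · exact kz 45 (by decide)
  · exact k46
  · exact kz 47 (by decide)
  · exact k48
  · exact kz 49 (by decide)
  · exact kz 50 (by decide)
  · exact kz 51 (by decide)
  · exact k52
  · exact kz 53 (by decide)
  · exact kz 54 (by decide)
  · exact kz 55 (by decide)
  · exact kz 56 (by decide)
  · exact kz 57 (by decide)
  · exact k58
  · exact kz 59 (by decide)
  · exact kz 60 (by decide)
  · exact k61
  · exact kz 62 (by decide)
  · exact kz 63 (by decide)
  · exact kz 64 (by decide)
  · exact kz 65 (by decide)
  · exact kz 66 (by decide)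
  · exact kz 67 (by decide)
  · exact k68
  · exact kz 69 (by decide)
  · exact kz 70 (by decide)
  · exact kz 71 (by decide)
  · exact kz 72 (by decide)
  · exact kz 73 (by decide)
  · exact kz 74 (by decide)
  · exact kz 75 (by decide)
  · exact kz 76 (by decide)
  · exact k77
  · exact kz 78 (by decide)
  · exact kz 79 (by decide)
  · exact kz 80 (by decide)
  · exact kz 81 (by decide)
  · exact kz 82 (by decide)
  · exact kz 83 (by decide)
  · exact k84
  · exact kz 85 (by decide)
  · exact kz 86 (by decide)
  · exact kz 87 (by decide)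
  · exact kz 88 (by decide)
  · exact kz 89 (by decide)
  · exact kz 90 (by decide)
  · exact kz 91 (by decide)
  · exact kz 92 (by decide)
  · exact k93
  · exact kz 94 (by decide)
  · exact kz 95 (by decide)
  · exact kz 96 (by decide)
  · exact kz 97 (by decide)
  · exact kz 98 (by decide)
  · exact kz 99 (by decide)
  · exact k100
  · exact kz 101 (by decide)
  · exact kz 102 (by decide)
  · exact kz 103 (by decide)
  · exact kz 104 (by decide)
  · exact kz 105 (by decide)
  · exact kz 106 (by decide)
  · exact kz 107 (by decide)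
  · exact kz 108 (by decide)
  · exact k109
  · exact kz 110 (by decide)
  · exact kz 111 (by decide)
  · exact kz 112 (by decide)
  · exact kz 113 (by decide)
  · exact kz 114 (by decide)
  · exact kz 115 (by decide)
  · exact k116
  · exact kz 117 (by decide)
  · exact kz 118 (by decide)
  · exact kz 119 (by decide)
  · exact kz 120 (by decide)
  · exact kz 121 (by decide)
  · exact kz 122 (by decide)
  · exact kz 123 (by decide)
  · exact kz 124 (by decide)
  · exact k125
  · exact kz 126 (by decide)
  · exact kz 127 (by decide)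

theorem halpha (α : Gp ≃* Gp) : IsConj Cfsg.Agent.TcChain36.U62.aa (α Cfsg.Agent.TcChain36.U62.aa) := by
  haveI : Finite Gp := finG
  exact alpha_conj H hbs hbn hiv DD hiz hPr Cfsg.Agent.TcChain36.U62.aa_sq Cfsg.Agent.TcChain36.U62.aa_ne (q := 492567075) (a := 7) rfl
    (by rw [Cfsg.Agent.TcChain36.U62.cardG22]; rfl) (by decide) hS hI hCd α

end Cfsg.Agent.TcChain36.Out.Fi22
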