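import Mathlib
import Cfsg.Agent.TcChain36.Out.Fi22.Tab
import Cfsg.Agent.TcData.Fi22.I3510.Rep

set_option autoImplicit false
set_option maxRecDepth 1000000
set_option linter.all false

namespace Cfsg.Agent.TcChain36.Out.Fi22

open Cfsg.Agent.Lib.OutTree36

set_option Elab.async false

open Cfsg.Agent.Lib.TcBits Cfsg.Agent.Lib.TcPres
open Cfsg.Agent.TcData.Fi22.I3510 Cfsg.Agent.TcData.Fi22

theorem c0 : allR (fun p => !(Nat.blt p 3510) || Nat.beq (wordApply (sgnProg pr) [(Cfsg.Spor.Fi22.Gen.a, true)] (Nat.pow 2 (tget 12 t0 p))) (Nat.pow 2 p)) 12 0 = true := by decide +kernel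

theorem c1 : allR (fun p => !(Nat.blt p 3510) || Nat.beq (wordApply (sgnProg pr) [(Cfsg.Spor.Fi22.Gen.b, true)] (Nat.pow 2 (tget 12 t1 p))) (Nat.pow 2 p)) 12 0 = true := by decide +kernel

theorem c2 : allR (fun p => !(Nat.blt p 3510) || Nat.beq (wordApply (sgnProg pr) [(Cfsg.Spor.Fi22.Gen.c, true)] (Nat.pow 2 (tget 12 t2 p))) (Nat.pow 2 p)) 12 0 = true := by decide +kernel

theorem c3 : allR (fun p => !(Nat.blt p 3510) || Nat.beq (wordApply (sgnProg pr) [(Cfsg.Spor.Fi22.Gen.d, true)] (Nat.pow 2 (tget 12 t3 p))) (Nat.pow 2 p)) 12 0 = true := by decide +kernel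

theorem c4 : allR (fun p => !(Nat.blt p 3510) || Nat.beq (wordApply (sgnProg pr) [(Cfsg.Spor.Fi22.Gen.e, true)] (Nat.pow 2 (tget 12 t4 p))) (Nat.pow 2 p)) 12 0 = true := by decide +kernel

theorem c5 : allR (fun p => !(Nat.blt p 3510) || Nat.beq (wordApply (sgnProg pr) [(Cfsg.Spor.Fi22.Gen.f, true)] (Nat.pow 2 (tget 12 t5 p))) (Nat.pow 2 p)) 12 0 = true := by decide +kernel

theorem c6 : allR (fun p => !(Nat.blt p 3510) || Nat.beq (wordApply (sgnProg pr) [(Cfsg.Spor.Fi22.Gen.g, true)] (Nat.pow 2 (tget 12 t6 p))) (Nat.pow 2 p)) 12 0 = true := by decide +kernel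

theorem c7 : allR (fun p => !(Nat.blt p 3510) || Nat.beq (wordApply (sgnProg pr) [(Cfsg.Spor.Fi22.Gen.h, true)] (Nat.pow 2 (tget 12 t7 p))) (Nat.pow 2 p)) 12 0 = true := by decide +kernel

theorem c8 : allR (fun p => !(Nat.blt p 3510) || Nat.beq (wordApply (sgnProg pr) [(Cfsg.Spor.Fi22.Gen.i, true)] (Nat.pow 2 (tget 12 t8 p))) (Nat.pow 2 p)) 12 0 = true := by decide +kernel

end Cfsg.Agent.TcChain36.Out.Fi22
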